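import Groth.Agent.Comod.Along
import Groth.Agent.Comod.Coeff
import Groth.Prelude.Def_ComodSub
import Mathlib.RingTheory.Coalgebra.GroupLike
import Mathlib.LinearAlgebra.Dual.Lemmas
import Mathlib.LinearAlgebra.TensorProduct.RightExactness

/-!
# Weight filtrations of comodules: unipotent and trigonalizable groups
-/

set_option autoImplicit false
universe u v w w' x

open TensorProduct

namespace Groth.Agent.HopfUnip

open Groth.Agent.Comod HopfRep

section Coalg

variable {k : Type u} [Field k] {A : Type v} [AddCommGroup A] [Module k A] [Coalgebra k A]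
variable {V : Type w} [AddCommGroup V] [Module k V] [cV : Comod k A V]

variable (k) in
/-- the vectors which have weight `g` modulo `W` -/
noncomputable def wtSub (g : A) (W : Submodule k V) : Submodule k V :=
  (LinearMap.range (W.subtype.rTensor A)).comap
    (Comod.coact (k := k) (A := A) - (TensorProduct.mk k V A).flip g)

theorem mem_wtSub {g : A} {W : Submodule k V} {v : V} :
    v ∈ wtSub k g W ↔
      Comod.coact (k := k) (A := A) v - v ⊗ₜ[k] g ∈ LinearMap.range (W.subtype.rTensor A) := Iff.rfl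

theorem mem_wtSub_iff_slR {g : A} {W : Submodule k V} {v : V} :
    v ∈ wtSub k g W ↔ ∀ φ : A →ₗ[k] k, actL φ v - φ g • v ∈ W := by
  rw [mem_wtSub]
  refine ⟨fun h φ => ?_, fun h => mem_range_rTensor_of_slR_mem fun φ => ?_⟩
  · have := slR_mem_of_mem_range h φ
    rwa [map_sub, slR_tmul] at this
  · rw [map_sub, slR_tmul]
    exact h φ

theorem mem_wtSub_bot {g : A} {v : V} :
    v ∈ wtSub k g (⊥ : Submodule k V) ↔ Comod.coact (k := k) (A := A) v = v ⊗ₜ[k] g := by
  rw [mem_wtSub_iff_slR]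
  refine ⟨fun h => ext_slR fun φ => ?_, fun h φ => ?_⟩
  · rw [slR_tmul, ← actL_apply, ← sub_eq_zero]
    exact (Submodule.mem_bot k).1 (h φ)
  · rw [Submodule.mem_bot, actL_apply, h, slR_tmul, sub_self]

variable (k) in
/-- the next step of the weight filtration -/
noncomputable def nextW (S : Set A) (W : Submodule k V) : Submodule k V :=
  ⨆ g : S, wtSub k (g : A) W

variable (k V) in
/-- the weight filtration -/
noncomputable def fil (S : Set A) : ℕ → Submodule k V
  | 0 => ⊥
  | n + 1 => nextW k S (fil S n)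

theorem wtSub_mono {g : A} {W W' : Submodule k V} (h : W ≤ W') : wtSub k g W ≤ wtSub k g W' := fun v hv => by
  rw [mem_wtSub_iff_slR] at hv ⊢
  exact fun φ => h (hv φ)

theorem nextW_mono {S : Set A} {W W' : Submodule k V} (h : W ≤ W') : nextW k S W ≤ nextW k S W' :=
  iSup_mono fun _ => wtSub_mono h

theorem fil_le_succ (S : Set A) : ∀ n, fil k V S n ≤ fil k V S (n + 1)
  | 0 => bot_le
  | n + 1 => nextW_mono (fil_le_succ S n)

theorem fil_mono (S : Set A) : Monotone (fil k V S) :=
  monotone_nat_of_le_succ (fil_le_succ S)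

theorem wtSub_le_fil_succ {S : Set A} {g : A} (hg : g ∈ S) (n : ℕ) :
    wtSub k g (fil k V S n) ≤ fil k V S (n + 1) :=
  le_iSup (fun g : S => wtSub k (g : A) (fil k V S n)) ⟨g, hg⟩

theorem isSubcomod_fil (S : Set A) : ∀ n, IsSubcomod (k := k) (A := A) (fil k V S n)
  | 0 => isSubcomod_iff.2 fun φ v hv => by simp_all [fil]
  | n + 1 => isSubcomod_iff.2 fun φ v hv => by
    induction hv using Submodule.iSup_induction' with
    | mem g x hx =>
      have h := fil_le_succ S n (mem_wtSub_iff_slR.1 hx φ)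
      have h' : φ (g : A) • x ∈ fil k V S (n + 1) := Submodule.smul_mem _ _ (wtSub_le_fil_succ g.2 n hx)
      simpa using add_mem h h'
    | zero => simp
    | add x y _ _ hx hy => rw [map_add]; exact add_mem hx hy

theorem fil_mono_set {S T : Set A} (h : S ⊆ T) : ∀ n, fil k V S n ≤ fil k V T n
  | 0 => le_rfl
  | n + 1 => iSup_le fun g => (wtSub_mono (fil_mono_set h n)).trans (wtSub_le_fil_succ (h g.2) n)

variable (k V) in
/-- every vector is reached by the weight filtration -/
def IsWeighted (S : Set A) : Prop := ⨆ n, fil k V S n = ⊤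

theorem isWeighted_mono {S T : Set A} (h : S ⊆ T) (hw : IsWeighted k V S) : IsWeighted k V T :=
  eq_top_iff.2 (le_of_eq_of_le hw.symm (iSup_mono fun n => fil_mono_set h n))

theorem exists_le_fil {S : Set A} {U : Submodule k V} (hU : U.FG) (h : U ≤ ⨆ n, fil k V S n) :
    ∃ n, U ≤ fil k V S n := by
  obtain ⟨s, rfl⟩ := hU
  classical
  induction s using Finset.induction with
  | empty => exact ⟨0, by simp⟩
  | insert a s _ ih =>
    rw [Finset.coe_insert, Submodule.span_insert, sup_le_iff] at h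
    obtain ⟨n, hn⟩ := ih h.2
    obtain ⟨m, hm⟩ := (Submodule.mem_iSup_of_directed _ (fil_mono S).directed_le).1
      (h.1 (Submodule.mem_span_singleton_self a))
    exact ⟨n + m, by
      rw [Finset.coe_insert, Submodule.span_insert, sup_le_iff, Submodule.span_singleton_le_iff_mem]
      exact ⟨fil_mono S (Nat.le_add_left m n) hm, hn.trans (fil_mono S (Nat.le_add_right n m))⟩⟩

/-- a nonzero subcomodule inside the filtration has an eigenvector -/
theorem exists_eigvec_mem {S : Set A} (hS : ∀ g ∈ S, IsGroupLikeElem k g) {U : Submodule k V}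
    (hU : IsSubcomod (k := k) (A := A) U) (h0 : U ≠ ⊥) (hle : U ≤ ⨆ n, fil k V S n) :
    ∃ u ∈ U, u ≠ 0 ∧ ∃ g ∈ S, Comod.coact (k := k) (A := A) u = u ⊗ₜ[k] g := by
  classical
  have hex : ∃ n, U ⊓ fil k V S n ≠ ⊥ := by
    obtain ⟨u, hu, hu0⟩ := U.ne_bot_iff.1 h0
    obtain ⟨n, hn⟩ := (Submodule.mem_iSup_of_directed _ (fil_mono S).directed_le).1 (hle hu)
    exact ⟨n, fun h => hu0 ((Submodule.eq_bot_iff _).1 h u ⟨hu, hn⟩)⟩
  obtain ⟨n, hn⟩ : ∃ n, Nat.find hex = n + 1 :=
    Nat.exists_eq_succ_of_ne_zero fun h => by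
      have := Nat.find_spec hex
      rw [h] at this
      exact this (by simp [fil])
  have hW : U ⊓ fil k V S n = ⊥ := not_not.1 (Nat.find_min hex (by omega))
  have hW1 : U ⊓ fil k V S (n + 1) ≠ ⊥ := hn ▸ Nat.find_spec hex
  obtain ⟨u, ⟨huU, hu1⟩, hu0⟩ := Submodule.ne_bot_iff _ |>.1 hW1
  obtain ⟨c, hc, hsum⟩ := (Submodule.mem_iSup_iff_exists_finsupp _ _).1 hu1
  -- the component of weight `h`
  have key : ∀ h : S, ∃ w ∈ fil k V S n, c h + w ∈ U := by
    intro h
    have hli : LinearIndepOn k id ((fun g : S => (g : A)) '' (↑(insert h c.support) : Set S)) :=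
      (linearIndepOn_isGroupLikeElem (R := k) (A := A)).mono (by rintro _ ⟨g, -, rfl⟩; exact hS g g.2)
    have hnot : (h : A) ∉ Submodule.span k ((fun g : S => (g : A)) '' (↑(c.support.erase h) : Set S)) := by
      refine ((linearIndepOn_id_insert ?_).1 (hli.mono ?_)).2
      · rintro ⟨g, hg, he⟩
        exact (Finset.mem_erase.1 hg).1 (Subtype.ext he)
      · rintro _ (rfl | ⟨g, hg, rfl⟩)
        · exact ⟨h, by simp, rfl⟩
        · exact ⟨g, Finset.mem_insert_of_mem (Finset.mem_erase.1 hg).2, rfl⟩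
    obtain ⟨φ, hφ, hφ0⟩ := Submodule.exists_le_ker_of_notMem hnot
    let ψ := (φ h)⁻¹ • φ
    have hψh : ψ (h : A) = 1 := by simp [ψ, hφ]
    have hψ : ∀ g ∈ c.support, g ≠ h → ψ (g : A) = 0 := fun g hg hne => by
      have : φ (g : A) = 0 := hφ0 (Submodule.subset_span ⟨g, Finset.mem_erase.2 ⟨hne, hg⟩, rfl⟩)
      simp [ψ, this]
    refine ⟨actL ψ u - c h, ?_, by rw [add_sub_cancel]; exact IsSubcomod.actL_mem hU ψ huU⟩
    have e : actL ψ u - c h = ∑ g ∈ c.support, (actL ψ (c g) - ψ (g : A) • c g) := by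
      rw [Finset.sum_sub_distrib, ← map_sum, ← hsum, Finsupp.sum]
      congr 1
      rw [Finset.sum_eq_single h (fun g hg hne => by rw [hψ g hg hne, zero_smul])
        (fun hh => by simp [Finsupp.notMem_support_iff.1 hh]), hψh, one_smul]
    rw [e]
    exact Submodule.sum_mem _ fun g _ => mem_wtSub_iff_slR.1 (hc g) ψ
  obtain ⟨h, hh⟩ : ∃ h, c h ∉ fil k V S n := by
    by_contra hcon
    push Not at hcon
    refine hu0 ((Submodule.eq_bot_iff _).1 hW u ⟨huU, ?_⟩)
    rw [← hsum, Finsupp.sum]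
    exact Submodule.sum_mem _ fun g _ => hcon g
  obtain ⟨w, hw, hcw⟩ := key h
  refine ⟨c h + w, hcw, fun h0 => hh ?_, h, h.2, ?_⟩
  · rw [eq_neg_of_add_eq_zero_left h0]
    exact neg_mem hw
  · refine mem_wtSub_bot.1 (mem_wtSub_iff_slR.2 fun φ => ?_)
    rw [← hW]
    refine ⟨sub_mem (IsSubcomod.actL_mem hU φ hcw) (U.smul_mem _ hcw), ?_⟩
    show actL φ (c h + w) - φ (h : A) • (c h + w) ∈ fil k V S n
    rw [map_add, smul_add, add_sub_add_comm]
    exact add_mem (mem_wtSub_iff_slR.1 (hc h) φ)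
      (sub_mem (IsSubcomod.actL_mem (isSubcomod_fil S n) φ hw) (Submodule.smul_mem _ _ hw))

/-- an eigenvalue is a group-like element -/
theorem isGroupLikeElem_of_eigvec {x : V} (hx : x ≠ 0) {g : A}
    (h : Comod.coact (k := k) (A := A) x = x ⊗ₜ[k] g) : IsGroupLikeElem k g := by
  obtain ⟨ψ, hψ⟩ : ∃ ψ : V →ₗ[k] k, ψ x = 1 := by
    obtain ⟨φ, hφ, -⟩ := Submodule.exists_le_ker_of_notMem
      (show x ∉ (⊥ : Submodule k V) by simpa using hx)
    exact ⟨(φ x)⁻¹ • φ, by simp [hφ]⟩
  refine ⟨?_, ?_⟩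
  · have := LinearMap.congr_fun (Comod.counit_comp (k := k) (A := A) (V := V)) x
    simp only [LinearMap.comp_apply, h, LinearMap.lTensor_tmul, LinearMap.flip_apply, TensorProduct.mk_apply] at this
    simpa [hψ] using congrArg (slL ψ) this
  · have := LinearMap.congr_fun (Comod.coassoc (k := k) (A := A) (V := V)) x
    simp only [LinearMap.comp_apply, h, LinearMap.rTensor_tmul, LinearEquiv.coe_coe, TensorProduct.assoc_tmul,
      LinearMap.lTensor_tmul] at this
    simpa [hψ] using (congrArg (slL ψ) this).symm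

/-- every nonzero comodule has a minimal nonzero subcomodule -/
theorem exists_minimal_subcomod [Nontrivial V] :
    ∃ S : Submodule k V, S ≠ ⊥ ∧ Module.Finite k S ∧ IsSubcomod (k := k) (A := A) S ∧
      ∀ T : Submodule k V, IsSubcomod (k := k) (A := A) T → T ≤ S → T = ⊥ ∨ T = S := by
  classical
  obtain ⟨v, hv⟩ := exists_ne (0 : V)
  have hex : ∃ n, ∃ S : Submodule k V, S ≠ ⊥ ∧ Module.Finite k S ∧ IsSubcomod (k := k) (A := A) S ∧
      Module.finrank k S = n :=
    ⟨_, orbitSub k A v, fun h => hv ((Submodule.eq_bot_iff _).1 h v (self_mem_orbitSub v)),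
      finite_orbitSub v, isSubcomod_orbitSub v, rfl⟩
  obtain ⟨S, h0, hfin, hS, hn⟩ := Nat.find_spec hex
  refine ⟨S, h0, hfin, hS, fun T hT hTS => ?_⟩
  by_contra hcon
  push Not at hcon
  have hlt := Submodule.finrank_lt_finrank_of_lt (lt_of_le_of_ne hTS hcon.2)
  rw [hn] at hlt
  exact Nat.find_min hex hlt ⟨T, hcon.1,
    Module.Finite.of_injective (Submodule.inclusion hTS) (Submodule.inclusion_injective _), hT, rfl⟩

/-- eigenvectors in the subcomodules of the regular comodule give eigenvectors everywhere -/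
theorem exists_eigvec_of_sub {S : Set A}
    (h : ∀ U : Submodule k A, IsSubcomod (k := k) (A := A) U → U ≠ ⊥ →
      ∃ u ∈ U, u ≠ 0 ∧ ∃ g ∈ S, Comod.coact (k := k) (A := A) u = u ⊗ₜ[k] g)
    [Nontrivial V] : ∃ x : V, x ≠ 0 ∧ ∃ g ∈ S, Comod.coact (k := k) (A := A) x = x ⊗ₜ[k] g := by
  obtain ⟨M, hM0, -, hM, hmin⟩ := exists_minimal_subcomod (k := k) (A := A) (V := V)
  obtain ⟨v, hv, hv0⟩ := M.ne_bot_iff.1 hM0
  obtain ⟨ψ, hψ, -⟩ := Submodule.exists_le_ker_of_notMem (show v ∉ (⊥ : Submodule k V) by simpa using hv0)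
  let f : V →ₗ[k] A := coeffMap (C := A) ψ
  have hf : Hoch.IsComodHom A f := isComodHom_coeffMap ψ
  have hker : M ⊓ LinearMap.ker f = ⊥ := by
    refine (hmin (M ⊓ LinearMap.ker f) (isSubcomod_iff.2 fun φ x hx => ⟨IsSubcomod.actL_mem hM φ hx.1,
      IsSubcomod.actL_mem (isSubcomod_ker hf) φ hx.2⟩) inf_le_left).resolve_right fun he => hψ ?_
    have : f v = 0 := ((he.symm ▸ hv : v ∈ M ⊓ LinearMap.ker f)).2
    rw [← counit_coeffMap (C := A) ψ v]
    exact (congrArg (Coalgebra.counit (R := k)) this).trans (map_zero _)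
  have hinj : ∀ x ∈ M, f x = 0 → x = 0 := fun x hx h0 => (Submodule.eq_bot_iff _).1 hker x ⟨hx, h0⟩
  obtain ⟨_, ⟨x, hx, rfl⟩, hx0, g, hg, hgx⟩ := h (M.map f)
    (isSubcomod_iff.2 fun φ y hy => by
      obtain ⟨x, hx, rfl⟩ := hy
      exact ⟨_, IsSubcomod.actL_mem hM φ hx, IsComodHom.map_actL hf φ x⟩)
    (fun hb => hv0 (hinj v hv ((Submodule.eq_bot_iff _).1 hb _ ⟨v, hv, rfl⟩)))
  refine ⟨x, fun h0 => hx0 (by rw [h0, map_zero]), g, hg, mem_wtSub_bot.1 (mem_wtSub_iff_slR.2 fun φ => ?_)⟩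
  rw [Submodule.mem_bot]
  refine hinj _ (sub_mem (IsSubcomod.actL_mem hM φ hx) (M.smul_mem _ hx)) ?_
  rw [map_sub, map_smul, IsComodHom.map_actL hf, ← Submodule.mem_bot (R := k)]
  exact mem_wtSub_iff_slR.1 (mem_wtSub_bot.2 hgx) φ

/-- if the regular comodule is weighted, every nonzero comodule has an eigenvector -/
theorem exists_eigvec_of_regular {S : Set A} (hS : ∀ g ∈ S, IsGroupLikeElem k g) (h : IsWeighted k A S)
    [Nontrivial V] : ∃ x : V, x ≠ 0 ∧ ∃ g ∈ S, Comod.coact (k := k) (A := A) x = x ⊗ₜ[k] g :=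
  exists_eigvec_of_sub fun _ hU h0 => exists_eigvec_mem hS hU h0 (le_of_le_of_eq le_top h.symm)

end Coalg

section Criterion

variable {k : Type u} [Field k] {A : Type v} [CommRing A] [Bialgebra k A]

/-- if every nonzero comodule has an eigenvector, every comodule is weighted -/
theorem isWeighted_of_forall {S : Set A}
    (h : ∀ (X : Type w) [AddCommGroup X] [Module k X] [Comod k A X], Nontrivial X →
      ∃ x : X, x ≠ 0 ∧ ∃ g ∈ S, Comod.coact (k := k) (A := A) x = x ⊗ₜ[k] g)
    (V : Type w) [AddCommGroup V] [Module k V] [cV : Comod k A V] : IsWeighted k V S := by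
  by_contra hne
  let W : Submodule k V := ⨆ n, fil k V S n
  have hW : IsSubcomod (k := k) (A := A) W := isSubcomod_iSup fun n => isSubcomod_fil S n
  letI : Comod k A (V ⧸ W) := ComodSub.Comod.quot cV W hW
  obtain ⟨q, hq0, g, hg, hq⟩ := h (V ⧸ W) (Submodule.Quotient.nontrivial_iff.2 hne)
  obtain ⟨v, rfl⟩ := W.mkQ_surjective q
  refine hq0 ((Submodule.Quotient.mk_eq_zero W).2 ?_)
  have h1 : W.mkQ.rTensor A (Comod.coact (k := k) (A := A) v - v ⊗ₜ[k] g) = 0 := by
    rw [map_sub, sub_eq_zero, LinearMap.rTensor_tmul]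
    exact hq
  obtain ⟨y, hy⟩ := (rTensor_exact A (LinearMap.exact_subtype_mkQ W) W.mkQ_surjective _).1 h1
  obtain ⟨M, hM, hMφ⟩ := exists_fg_slR_mem (Comod.coact (k := k) (A := A) v - v ⊗ₜ[k] g)
  have hslice : ∀ φ : A →ₗ[k] k, slR φ (Comod.coact (k := k) (A := A) v - v ⊗ₜ[k] g) ∈ M ⊓ W :=
    fun φ => ⟨hMφ φ, slR_mem_of_mem_range ⟨y, hy⟩ φ⟩
  haveI : Module.Finite k M := Module.Finite.iff_fg.2 hM
  obtain ⟨n, hn⟩ := exists_le_fil (S := S) (U := M ⊓ W) (Module.Finite.iff_fg.1
    (Module.Finite.of_injective (Submodule.inclusion (inf_le_left : M ⊓ W ≤ M))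
      (Submodule.inclusion_injective _))) inf_le_right
  exact Submodule.mem_iSup_of_mem (n + 1)
    (wtSub_le_fil_succ hg n (mem_range_rTensor_of_slR_mem fun φ => hn (hslice φ)))

theorem eigvec_of_restr {V : Type w} [AddCommGroup V] [Module k V] [cV : Comod k A V] {M : Submodule k V}
    (hM : IsSubcomod (k := k) (A := A) M) {x : M} {g : A}
    (h : (ComodSub.Comod.restr cV M hM).coact x = x ⊗ₜ[k] g) :
    Comod.coact (k := k) (A := A) (x : V) = (x : V) ⊗ₜ[k] g := by
  rw [← ComodSub.restr_coact_coe cV M hM x, h]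
  simp

theorem isSimpleComod_restr {V : Type w} [AddCommGroup V] [Module k V] [cV : Comod k A V] {M : Submodule k V}
    (hM : IsSubcomod (k := k) (A := A) M) (h0 : M ≠ ⊥)
    (hmin : ∀ T : Submodule k V, IsSubcomod (k := k) (A := A) T → T ≤ M → T = ⊥ ∨ T = M) :
    letI := ComodSub.Comod.restr cV M hM
    IsSimpleComod k A M := by
  letI := ComodSub.Comod.restr cV M hM
  refine ⟨Submodule.nontrivial_iff_ne_bot.2 h0, fun T hT => ?_⟩
  have hT' : IsSubcomod (k := k) (A := A) (T.map M.subtype) := by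
    refine isSubcomod_iff.2 fun φ y hy => ?_
    obtain ⟨x, hx, rfl⟩ := hy
    refine ⟨actL φ x, IsSubcomod.actL_mem hT φ hx, ?_⟩
    rw [actL_apply, actL_apply, ← slR_rTensor]
    exact congrArg (slR φ) (ComodSub.restr_coact_coe cV M hM x)
  rcases hmin _ hT' (Submodule.map_subtype_le _ _) with h | h
  · exact Or.inl (Submodule.map_injective_of_injective M.injective_subtype (h.trans (Submodule.map_bot _).symm))
  · exact Or.inr (Submodule.map_injective_of_injective M.injective_subtype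
      (h.trans (Submodule.map_subtype_top M).symm))

theorem exists_fixed_of_isUnipotent (hU : IsUnipotent k A) (X : Type v) [AddCommGroup X] [Module k X]
    [cX : Comod k A X] [Nontrivial X] :
    ∃ x : X, x ≠ 0 ∧ ∃ g ∈ ({1} : Set A), Comod.coact (k := k) (A := A) x = x ⊗ₜ[k] g := by
  obtain ⟨M, h0, hfin, hM, -⟩ := exists_minimal_subcomod (k := k) (A := A) (V := X)
  letI := ComodSub.Comod.restr cX M hM
  obtain ⟨x, hx, hx0⟩ := (Submodule.ne_bot_iff _).1 (hU M hfin (Submodule.nontrivial_iff_ne_bot.2 h0))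
  exact ⟨x, fun h => hx0 (Subtype.ext h), 1, rfl, eigvec_of_restr hM hx⟩

/-- unipotence is read on the regular comodule -/
theorem isUnipotent_iff_isWeighted : IsUnipotent k A ↔ IsWeighted k A ({1} : Set A) := by
  refine ⟨fun hU => isWeighted_of_forall
    (fun X _ _ _ hX => haveI := hX; exists_fixed_of_isUnipotent hU X) A, fun h V _ _ _ _ hV hb => ?_⟩
  obtain ⟨x, hx0, g, rfl, hx⟩ := exists_eigvec_of_regular (V := V)
    (fun g hg => by rw [Set.mem_singleton_iff.1 hg]; exact IsGroupLikeElem.one) h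
  exact hx0 ((Submodule.eq_bot_iff _).1 hb x hx)

theorem exists_eigvec_of_isTrigonalizable (hT : IsTrigonalizable k A) (X : Type v) [AddCommGroup X]
    [Module k X] [cX : Comod k A X] [Nontrivial X] :
    ∃ x : X, x ≠ 0 ∧ ∃ g ∈ {a : A | IsGroupLikeElem k a}, Comod.coact (k := k) (A := A) x = x ⊗ₜ[k] g := by
  obtain ⟨M, h0, hfin, hM, hmin⟩ := exists_minimal_subcomod (k := k) (A := A) (V := X)
  obtain ⟨v, hv, hv0⟩ := M.ne_bot_iff.1 h0
  letI := ComodSub.Comod.restr cX M hM
  have h1 := hT M hfin (isSimpleComod_restr hM h0 hmin)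
  have hv' : (⟨v, hv⟩ : M) ≠ 0 := fun h => hv0 (congrArg Subtype.val h)
  obtain ⟨φ, hφ, -⟩ := Submodule.exists_le_ker_of_notMem
    (show (⟨v, hv⟩ : M) ∉ (⊥ : Submodule k M) by simpa using hv')
  let g : A := (φ ⟨v, hv⟩)⁻¹ • coeffMap (C := A) φ (⟨v, hv⟩ : M)
  have hx : Comod.coact (k := k) (A := A) (⟨v, hv⟩ : M) = (⟨v, hv⟩ : M) ⊗ₜ[k] g := by
    refine ext_slR fun ψ => ?_
    obtain ⟨c, hc⟩ := (finrank_eq_one_iff_of_nonzero' _ hv').1 h1 (slR ψ (Comod.coact (k := k) (A := A) (⟨v, hv⟩ : M)))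
    rw [slR_tmul, ← hc]
    congr 1
    have hcomm : ∀ z : M ⊗[k] A, ψ (slL φ z) = φ (slR ψ z) := by
      intro z
      induction z with
      | zero => simp
      | tmul p q => simp [mul_comm]
      | add y z hy hz => simp only [map_add, hy, hz]
    rw [map_smul, coeffMap_apply, hcomm, ← hc, map_smul, smul_eq_mul, smul_eq_mul]
    field_simp
  exact ⟨v, hv0, g, isGroupLikeElem_of_eigvec hv' hx, eigvec_of_restr hM hx⟩

/-- trigonalizability is read on the regular comodule -/
theorem isTrigonalizable_iff_isWeighted :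
    IsTrigonalizable k A ↔ IsWeighted k A {a : A | IsGroupLikeElem k a} := by
  refine ⟨fun hT => isWeighted_of_forall
    (fun X _ _ _ hX => haveI := hX; exists_eigvec_of_isTrigonalizable hT X) A, fun h V _ _ _ _ hV => ?_⟩
  haveI := hV.1
  obtain ⟨x, hx0, g, hg, hx⟩ := exists_eigvec_of_regular (V := V) (fun g hg => hg) h
  have hsub : IsSubcomod (k := k) (A := A) (Submodule.span k {x}) := isSubcomod_iff.2 fun φ y hy => by
    obtain ⟨c, rfl⟩ := Submodule.mem_span_singleton.1 hy
    rw [map_smul, actL_apply, hx, slR_tmul]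
    exact Submodule.smul_mem _ _ (Submodule.smul_mem _ _ (Submodule.mem_span_singleton_self x))
  rcases hV.2 _ hsub with h' | h'
  · exact absurd (Submodule.span_singleton_eq_bot.1 h') hx0
  · rw [← finrank_top, ← h']
    exact finrank_span_singleton hx0

end Criterion

section Map

variable {k : Type u} [Field k] {A : Type v} [CommRing A] [Bialgebra k A] {B : Type x} [CommRing B] [Bialgebra k B]

theorem map_fil_le (f : A →ₐc[k] B) (S : Set A) :
    ∀ n, (fil k A S n).map (f : A →ₐ[k] B).toLinearMap ≤ fil k B (f '' S) n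
  | 0 => by simp [fil]
  | n + 1 => by
    show (⨆ g : S, wtSub k (g : A) (fil k A S n)).map (f : A →ₐ[k] B).toLinearMap ≤ _
    rw [Submodule.map_iSup, iSup_le_iff]
    rintro g _ ⟨v, hv, rfl⟩
    refine wtSub_le_fil_succ (g := f g) (Set.mem_image_of_mem f g.2) n ?_
    rw [mem_wtSub]
    obtain ⟨y, hy⟩ := mem_wtSub.1 hv
    let fW : fil k A S n →ₗ[k] fil k B (f '' S) n :=
      LinearMap.codRestrict _ ((f : A →ₐ[k] B).toLinearMap ∘ₗ (fil k A S n).subtype)
        fun w => map_fil_le f S n ⟨w, w.2, rfl⟩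
    refine ⟨TensorProduct.map fW (f : A →ₐ[k] B).toLinearMap y, ?_⟩
    have e : TensorProduct.map (f : A →ₐ[k] B).toLinearMap (f : A →ₐ[k] B).toLinearMap
        (Comod.coact (k := k) (A := A) v - v ⊗ₜ[k] (g : A)) =
        Comod.coact (k := k) (A := B) (f v) - f v ⊗ₜ[k] f g := by
      rw [map_sub, TensorProduct.map_tmul]
      congr 1
      exact CoalgHomClass.map_comp_comul_apply f v
    refine Eq.trans ?_ e
    rw [← hy, LinearMap.rTensor, ← LinearMap.comp_apply, ← TensorProduct.map_comp, LinearMap.rTensor,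
      ← LinearMap.comp_apply, ← TensorProduct.map_comp]
    rfl

theorem isWeighted_of_surjective (f : A →ₐc[k] B) (hf : Function.Surjective f) {S : Set A} {T : Set B}
    (hST : Set.MapsTo f S T) (h : IsWeighted k A S) : IsWeighted k B T := by
  have hmono : ∀ n, fil k B (f '' S) n ≤ fil k B T n := by
    exact fil_mono_set hST.image_subset
  refine eq_top_iff.2 fun b _ => ?_
  obtain ⟨a, rfl⟩ := hf b
  have ha : a ∈ ⨆ n, fil k A S n := h.symm ▸ Submodule.mem_top
  obtain ⟨n, hn⟩ := (Submodule.mem_iSup_of_directed _ (fil_mono S).directed_le).1 ha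
  exact Submodule.mem_iSup_of_mem n (hmono n (map_fil_le f S n ⟨a, hn, rfl⟩))

/-- weights pull back along injective maps -/
theorem isWeighted_of_injective (f : B →ₐc[k] A) (hf : Function.Injective f) {S : Set A}
    (hS : ∀ g ∈ S, IsGroupLikeElem k g) (h : IsWeighted k A S) :
    IsWeighted k B {b : B | IsGroupLikeElem k b ∧ f b ∈ S} := by
  have hsub : ∀ U : Submodule k B, IsSubcomod (k := k) (A := B) U → U ≠ ⊥ →
      ∃ u ∈ U, u ≠ 0 ∧ ∃ g ∈ {b : B | IsGroupLikeElem k b ∧ f b ∈ S},
        Comod.coact (k := k) (A := B) u = u ⊗ₜ[k] g := by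
    intro U hU h0
    let F : B →ₗ[k] A := (f : B →ₐ[k] A).toLinearMap
    have hFF : Function.Injective (TensorProduct.map F F) := by
      rw [show TensorProduct.map F F = F.lTensor A ∘ₗ F.rTensor B from (LinearMap.lTensor_comp_rTensor _ _ _).symm]
      exact (Module.Flat.lTensor_preserves_injective_linearMap F hf).comp
        (Module.Flat.rTensor_preserves_injective_linearMap F hf)
    have hcom : ∀ u : B, Comod.coact (k := k) (A := A) (F u) =
        TensorProduct.map F F (Comod.coact (k := k) (A := B) u) := fun u =>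
      (CoalgHomClass.map_comp_comul_apply f u).symm
    obtain ⟨_, ⟨u, hu, rfl⟩, hu0, g, hg, hgu⟩ := exists_eigvec_mem hS (U := U.map F)
      (fun y hy => by
        obtain ⟨x, hx, rfl⟩ := hy
        obtain ⟨z, hz⟩ := hU x hx
        refine ⟨TensorProduct.map (LinearMap.codRestrict (U.map F) (F ∘ₗ U.subtype) fun w => ⟨w, w.2, rfl⟩) F z, ?_⟩
        rw [hcom, ← hz, LinearMap.rTensor, LinearMap.rTensor, ← LinearMap.comp_apply, ← TensorProduct.map_comp,
          ← LinearMap.comp_apply, ← TensorProduct.map_comp]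
        rfl)
      (fun hb => by
        obtain ⟨x, hx, hx0⟩ := U.ne_bot_iff.1 h0
        exact hx0 (hf (((Submodule.eq_bot_iff _).1 hb _ ⟨x, hx, rfl⟩).trans (map_zero f).symm)))
      (le_of_le_of_eq le_top h.symm)
    have hcu : F u = Coalgebra.counit (R := k) u • g := by
      have := Coalgebra.rTensor_counit_comul (R := k) (F u)
      rw [show Coalgebra.comul (R := k) (F u) = F u ⊗ₜ[k] g from hgu, LinearMap.rTensor_tmul] at this
      have e := congrArg (TensorProduct.lid k A) this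
      simp only [TensorProduct.lid_tmul, one_smul] at e
      rw [← e]
      congr 1
      exact CoalgHomClass.counit_comp_apply f u
    have hε : Coalgebra.counit (R := k) u ≠ 0 := fun hz => hu0 (by rw [hcu, hz, zero_smul])
    let b : B := (Coalgebra.counit (R := k) u)⁻¹ • u
    have hfb : F b = g := by rw [map_smul, hcu, smul_smul, inv_mul_cancel₀ hε, one_smul]
    have hcoact : Comod.coact (k := k) (A := B) u = u ⊗ₜ[k] b :=
      hFF (by rw [← hcom, hgu, TensorProduct.map_tmul, hfb])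
    have hu0' : u ≠ 0 := fun hz => hu0 (by rw [hz, map_zero])
    exact ⟨u, hu, hu0', b, ⟨isGroupLikeElem_of_eigvec hu0' hcoact, show F b ∈ S from hfb ▸ hg⟩, hcoact⟩
  exact isWeighted_of_forall (fun X _ _ _ hX => haveI := hX; exists_eigvec_of_sub hsub) B

/-- trigonalizability passes to quotients of groups -/
theorem isTrigonalizable_of_injective (f : B →ₐc[k] A) (hf : Function.Injective f) (h : IsTrigonalizable k A) :
    IsTrigonalizable k B := by
  rw [isTrigonalizable_iff_isWeighted] at h ⊢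
  have h' := isWeighted_of_injective f hf (fun _ hg => hg) h
  exact isWeighted_mono (fun b hb => hb.1) h'

/-- trigonalizability passes to subgroups -/
theorem isTrigonalizable_of_surjective (f : A →ₐc[k] B) (hf : Function.Surjective f) (h : IsTrigonalizable k A) :
    IsTrigonalizable k B := by
  rw [isTrigonalizable_iff_isWeighted] at h ⊢
  exact isWeighted_of_surjective f hf (fun g hg => IsGroupLikeElem.map f hg) h

end Map

end Groth.Agent.HopfUnip
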