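import Groth.Agent.HopfUnip.Transfer
import Mathlib.RingTheory.DiscreteValuationRing.Basic
import Mathlib.RingTheory.Localization.FractionRing
import Mathlib.RingTheory.LocalRing.ResidueField.Basic

/-!
# Unipotent and trigonalizable groups: field extensions and specialisation
-/

set_option autoImplicit false
universe u v w

open TensorProduct

namespace Groth.Agent.HopfUnip

open Groth.Agent.Comod HopfRep

section Field

variable {k : Type u} [Field k] {A : Type v} [CommRing A] [Bialgebra k A] (k' : Type w) [Field k'] [Algebra k k']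

theorem isWeighted_baseChange {S : Set A} (h : IsWeighted k A S) :
    IsWeighted k' (k' ⊗[k] A) ((fun s => (1 : k') ⊗ₜ[k] s) '' S) :=
  isWeighted_transfer k k' (fun a b hab => by simpa using congrArg (TensorProduct.lid k A) hab) S
    (isWeighted_of_surjective ((Bialgebra.TensorProduct.lid k A).symm : A →ₐc[k] k ⊗[k] A)
      (Bialgebra.TensorProduct.lid k A).symm.surjective (fun s hs => ⟨s, hs, rfl⟩) h)

theorem isWeighted_descend {S : Set A}
    (h : IsWeighted k' (k' ⊗[k] A) ((fun s => (1 : k') ⊗ₜ[k] s) '' S)) : IsWeighted k A S := by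
  have hinj : Function.Injective fun a : A => (1 : k') ⊗ₜ[k] a := by
    have h1 := Module.Flat.rTensor_preserves_injective_linearMap (M := A) (Algebra.linearMap k k')
      (algebraMap k k').injective
    intro a b hab
    have := @h1 ((1 : k) ⊗ₜ[k] a) ((1 : k) ⊗ₜ[k] b) (by simpa using hab)
    simpa using congrArg (TensorProduct.lid k A) this
  refine isWeighted_of_surjective (Bialgebra.TensorProduct.lid k A : k ⊗[k] A →ₐc[k] A)
    (Bialgebra.TensorProduct.lid k A).surjective ?_ (isWeighted_transfer k' k hinj S h)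
  rintro _ ⟨s, hs, rfl⟩
  show Bialgebra.TensorProduct.lid k A ((1 : k) ⊗ₜ[k] s) ∈ S
  rwa [Bialgebra.TensorProduct.lid_tmul, one_smul]

theorem isUnipotent_baseChange_iff : IsUnipotent k A ↔ IsUnipotent k' (k' ⊗[k] A) := by
  rw [isUnipotent_iff_isWeighted, isUnipotent_iff_isWeighted]
  have e : (fun s => (1 : k') ⊗ₜ[k] s) '' ({1} : Set A) = {1} := by
    rw [Set.image_singleton, Algebra.TensorProduct.one_def]
  exact ⟨fun h => e ▸ isWeighted_baseChange k' h, fun h => isWeighted_descend k' (e.symm ▸ h)⟩

theorem isTrigonalizable_baseChange (h : IsTrigonalizable k A) : IsTrigonalizable k' (k' ⊗[k] A) := by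
  rw [isTrigonalizable_iff_isWeighted] at h ⊢
  refine isWeighted_mono ?_ (isWeighted_baseChange k' h)
  rintro _ ⟨s, hs, rfl⟩
  exact isGroupLikeElem_one_tmul k' hs

end Field

section DVR

variable {R : Type u} [CommRing R] [IsDomain R] (K : Type v) [Field K] [Algebra R K] [IsFractionRing R K]
  {H : Type w} [CommRing H] [Bialgebra R H] [Module.Flat R H]

theorem one_tmul_injective : Function.Injective fun x : H => (1 : K) ⊗ₜ[R] x := by
  intro a b hab
  have h := Module.Flat.rTensor_preserves_injective_linearMap (M := H) (Algebra.linearMap R K)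
    (IsFractionRing.injective R K)
  have := @h ((1 : R) ⊗ₜ[R] a) ((1 : R) ⊗ₜ[R] b) (by simpa using hab)
  simpa using congrArg (TensorProduct.lid R H) this

theorem theta_injective : Function.Injective (theta (R := R) (H := H) K) := by
  let e := TensorProduct.AlgebraTensorModule.cancelBaseChange R K K (K ⊗[R] H) H
  have he : ∀ z, e (theta K z) = (TensorProduct.mk R K H 1).rTensor H z := by
    intro z
    induction z with
    | zero => simp
    | tmul p q => rw [theta_tmul, TensorProduct.AlgebraTensorModule.cancelBaseChange_tmul, one_smul]; rfl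
    | add y z hy hz => simp only [map_add, hy, hz]
  intro a b hab
  exact Module.Flat.rTensor_preserves_injective_linearMap _ (one_tmul_injective K) (by rw [← he, ← he, hab])

theorem exists_smul_eq_one_tmul (z : K ⊗[R] H) :
    ∃ (a : R) (h : H), a ≠ 0 ∧ a • z = (1 : K) ⊗ₜ[R] h := by
  induction z with
  | zero => exact ⟨1, 0, one_ne_zero, by simp⟩
  | tmul c p =>
    obtain ⟨⟨num, den, hden⟩, hc⟩ := IsLocalization.surj (nonZeroDivisors R) c
    refine ⟨den, num • p, nonZeroDivisors.ne_zero hden, ?_⟩
    rw [TensorProduct.smul_tmul', Algebra.smul_def, mul_comm, hc, ← TensorProduct.smul_tmul,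
      Algebra.algebraMap_eq_smul_one]
  | add y z hy hz =>
    obtain ⟨a, h, ha, hy⟩ := hy
    obtain ⟨b, g, hb, hz⟩ := hz
    refine ⟨a * b, b • h + a • g, mul_ne_zero ha hb, ?_⟩
    rw [smul_add, tmul_add, tmul_smul, tmul_smul, ← hy, ← hz, smul_smul, smul_smul, mul_comm b a]

variable [IsDiscreteValuationRing R]

theorem exists_eq_one_tmul_of_isGroupLikeElem {g : K ⊗[R] H} (hg : IsGroupLikeElem K g) :
    ∃ h : H, IsGroupLikeElem R h ∧ (1 : K) ⊗ₜ[R] h = g := by
  obtain ⟨ϖ, hϖ⟩ := IsDiscreteValuationRing.exists_irreducible R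
  obtain ⟨a, h, ha, hah⟩ := exists_smul_eq_one_tmul K g
  obtain ⟨m, u, rfl⟩ := IsDiscreteValuationRing.eq_unit_mul_pow_irreducible ha hϖ
  have hbase : ∃ h : H, (ϖ ^ m) • g = (1 : K) ⊗ₜ[R] h :=
    ⟨((u⁻¹ : Rˣ) : R) • h, by rw [tmul_smul, ← hah, smul_smul, ← mul_assoc, Units.inv_mul, one_mul]⟩
  clear hah
  have key : ∀ m, (∃ h : H, (ϖ ^ m) • g = (1 : K) ⊗ₜ[R] h) → ∃ h : H, g = (1 : K) ⊗ₜ[R] h := by
    intro m
    induction m with
    | zero => rintro ⟨h, hh⟩; exact ⟨h, by simpa using hh⟩
    | succ m ih =>
      rintro ⟨h, hh⟩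
      have hsm : (ϖ ^ (m + 1)) • g = algebraMap R K (ϖ ^ (m + 1)) • g := (algebraMap_smul K _ g).symm
      have hc : (ϖ ^ (m + 1)) • Coalgebra.comul (R := R) h = h ⊗ₜ[R] h := by
        apply theta_injective (R := R) K
        rw [map_smul, ← comul_one_tmul, ← hh, theta_tmul, ← hh, hsm, map_smul, hg.comul_eq_tmul_self,
          ← algebraMap_smul K (ϖ ^ (m + 1)), smul_smul, TensorProduct.smul_tmul, TensorProduct.tmul_smul,
          TensorProduct.tmul_smul, smul_smul]
      let k := IsLocalRing.ResidueField R
      have hk : (1 : k) ⊗ₜ[R] h = 0 := by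
        by_contra hne
        obtain ⟨φ, hφ, -⟩ := Submodule.exists_le_ker_of_notMem
          (show (1 : k) ⊗ₜ[R] h ∉ (⊥ : Submodule k (k ⊗[R] H)) by simpa using hne)
        have h0 := congrArg (theta (R := R) k) hc
        rw [map_smul, theta_tmul, ← algebraMap_smul k,
          show algebraMap R k (ϖ ^ (m + 1)) = 0 by
            rw [map_pow, show algebraMap R k ϖ = 0 from (IsLocalRing.residue_eq_zero_iff ϖ).2
              (hϖ.maximalIdeal_eq ▸ Ideal.mem_span_singleton_self ϖ), zero_pow (by omega)], zero_smul] at h0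
        have := congrArg (fun z => TensorProduct.lid k k (TensorProduct.map φ φ z)) h0.symm
        simp only [TensorProduct.map_tmul, TensorProduct.lid_tmul, map_zero, smul_eq_mul, mul_self_eq_zero] at this
        exact hφ this
      have hex : Function.Exact (LinearMap.mulLeft R ϖ) (Algebra.linearMap R k) := fun x => by
        rw [Algebra.linearMap_apply, show algebraMap R k x = IsLocalRing.residue R x from rfl,
          IsLocalRing.residue_eq_zero_iff, hϖ.maximalIdeal_eq, Ideal.mem_span_singleton]
        exact ⟨fun ⟨c, hc⟩ => ⟨c, hc.symm⟩, fun ⟨c, hc⟩ => ⟨c, hc.symm⟩⟩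
      obtain ⟨y, hy⟩ := (rTensor_exact H hex IsLocalRing.residue_surjective ((1 : R) ⊗ₜ[R] h)).1
        (by rw [LinearMap.rTensor_tmul, Algebra.linearMap_apply, map_one]; exact hk)
      have hdiv : h = ϖ • TensorProduct.lid R H y := by
        have e : ∀ y, TensorProduct.lid R H ((LinearMap.mulLeft R ϖ).rTensor H y) = ϖ • TensorProduct.lid R H y := by
          intro y
          induction y with
          | zero => simp
          | tmul p q => simp [mul_smul]
          | add y z hy hz => simp only [map_add, smul_add, hy, hz]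
        simpa [hy] using e y
      refine ih ⟨TensorProduct.lid R H y, ?_⟩
      have hne : algebraMap R K ϖ ≠ 0 := fun h0 => hϖ.ne_zero (IsFractionRing.injective R K (h0.trans (map_zero _).symm))
      apply smul_right_injective (K ⊗[R] H) hne
      show algebraMap R K ϖ • _ = algebraMap R K ϖ • _
      rw [algebraMap_smul, algebraMap_smul, smul_smul, ← pow_succ', hh, ← tmul_smul, ← hdiv]
  obtain ⟨h, rfl⟩ := key m hbase
  refine ⟨h, ⟨IsFractionRing.injective R K ?_, theta_injective K ?_⟩, rfl⟩
  · simpa [TensorProduct.counit_tmul, Algebra.smul_def] using hg.counit_eq_one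
  · rw [theta_tmul, ← comul_one_tmul]
    exact hg.comul_eq_tmul_self

/-- unipotence specialises -/
theorem isUnipotent_specialise (L : Type u) [Field L] [Algebra R L] (h : IsUnipotent K (K ⊗[R] H)) :
    IsUnipotent L (L ⊗[R] H) := by
  rw [isUnipotent_iff_isWeighted] at h ⊢
  have e : ∀ (E : Type _) [CommRing E] [Algebra R E], (fun s => (1 : E) ⊗ₜ[R] s) '' ({1} : Set H) = {1} := by
    intro E _ _
    rw [Set.image_singleton, Algebra.TensorProduct.one_def]
  rw [← e L]
  exact isWeighted_transfer K L (one_tmul_injective K) _ (isWeighted_mono (by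
    rw [Set.image_singleton, Algebra.TensorProduct.one_def]) h)

/-- trigonalizability specialises -/
theorem isTrigonalizable_specialise (L : Type u) [Field L] [Algebra R L]
    (h : IsTrigonalizable K (K ⊗[R] H)) : IsTrigonalizable L (L ⊗[R] H) := by
  rw [isTrigonalizable_iff_isWeighted] at h ⊢
  refine isWeighted_mono ?_ (isWeighted_transfer K L (one_tmul_injective K) {h : H | IsGroupLikeElem R h}
    (isWeighted_mono (fun g hg => ?_) h))
  · rintro _ ⟨s, hs, rfl⟩
    exact isGroupLikeElem_one_tmul L hs
  · exact exists_eq_one_tmul_of_isGroupLikeElem K hg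

end DVR

end Groth.Agent.HopfUnip
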