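import Groth.Agent.HopfUnip.Basic
import Mathlib.RingTheory.Bialgebra.TensorProduct
import Mathlib.RingTheory.Flat.Basic
import Mathlib.LinearAlgebra.TensorProduct.Tower

/-!
# Weight filtrations under change of base
-/

set_option autoImplicit false
universe u v w z

open TensorProduct

namespace Groth.Agent.HopfUnip

open Groth.Agent.Comod HopfRep

section Aux

variable {k : Type u} [Field k] {A : Type v} [AddCommGroup A] [Module k A] [Coalgebra k A]
variable {V : Type w} [AddCommGroup V] [Module k V] [cV : Comod k A V]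

theorem le_wtSub {W : Submodule k V} (hW : IsSubcomod (k := k) (A := A) W) (g : A) : W ≤ wtSub k g W :=
  fun _ hv => mem_wtSub_iff_slR.2 fun φ => sub_mem (IsSubcomod.actL_mem hW φ hv) (W.smul_mem _ hv)

theorem isSubcomod_wtSub {W : Submodule k V} (hW : IsSubcomod (k := k) (A := A) W) (g : A) :
    IsSubcomod (k := k) (A := A) (wtSub k g W) :=
  isSubcomod_iff.2 fun φ v hv => by
    have h := add_mem (le_wtSub hW g (mem_wtSub_iff_slR.1 hv φ)) (Submodule.smul_mem _ (φ g) hv)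
    simpa using h

theorem wtSub_iSup_fil_le {S : Set A} {g : A} (hg : g ∈ S) :
    wtSub k g (⨆ n, fil k V S n) ≤ ⨆ n, fil k V S n := by
  intro v hv
  obtain ⟨M, hM, hMφ⟩ := exists_fg_slR_mem (Comod.coact (k := k) (A := A) v - v ⊗ₜ[k] g)
  haveI : Module.Finite k M := Module.Finite.iff_fg.2 hM
  obtain ⟨n, hn⟩ := exists_le_fil (S := S) (U := M ⊓ ⨆ n, fil k V S n) (Module.Finite.iff_fg.1
    (Module.Finite.of_injective (Submodule.inclusion (inf_le_left : M ⊓ (⨆ n, fil k V S n) ≤ M))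
      (Submodule.inclusion_injective _))) inf_le_right
  exact Submodule.mem_iSup_of_mem (n + 1)
    (wtSub_le_fil_succ hg n (mem_range_rTensor_of_slR_mem fun φ =>
      hn ⟨hMφ φ, slR_mem_of_mem_range (mem_wtSub.1 hv) φ⟩))

end Aux

section Transfer

variable {R : Type z} [CommRing R] (F : Type u) [Field F] [Algebra R F] (L : Type w) [Field L] [Algebra R L]
  {H : Type v} [CommRing H] [Bialgebra R H]

/-- the two factors base changed separately -/
noncomputable def theta : H ⊗[R] H →ₗ[R] (F ⊗[R] H) ⊗[F] (F ⊗[R] H) :=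
  (TensorProduct.mapOfCompatibleSMul F R R (F ⊗[R] H) (F ⊗[R] H)) ∘ₗ
    TensorProduct.map (TensorProduct.mk R F H 1) (TensorProduct.mk R F H 1)

theorem theta_tmul (p q : H) : theta F (p ⊗ₜ[R] q) = ((1 : F) ⊗ₜ[R] p) ⊗ₜ[F] ((1 : F) ⊗ₜ[R] q) := rfl

theorem comul_one_tmul (x : H) :
    Coalgebra.comul (R := F) ((1 : F) ⊗ₜ[R] x) = theta F (Coalgebra.comul (R := R) x) := by
  rw [TensorProduct.comul_tmul]
  generalize Coalgebra.comul (R := R) x = z
  induction z with
  | zero => simp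
  | tmul p q => rfl
  | add y z hy hz => simp only [tmul_add, map_add, hy, hz]

theorem theta_sub_tmul (x g : H) : theta F (Coalgebra.comul (R := R) x - x ⊗ₜ[R] g) =
    Coalgebra.comul (R := F) ((1 : F) ⊗ₜ[R] x) - ((1 : F) ⊗ₜ[R] x) ⊗ₜ[F] ((1 : F) ⊗ₜ[R] g) := by
  rw [map_sub, theta_tmul, comul_one_tmul]

variable [Module.Flat R H]

theorem transfer_step {g : H} {S : Set H} (hg : g ∈ S) (W : Submodule F (F ⊗[R] H))
    (hP : ∀ x : H, (1 : F) ⊗ₜ[R] x ∈ W →
      (1 : L) ⊗ₜ[R] x ∈ ⨆ n, fil L (L ⊗[R] H) ((fun s => (1 : L) ⊗ₜ[R] s) '' S) n)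
    (x : H) (hx : (1 : F) ⊗ₜ[R] x ∈ wtSub F ((1 : F) ⊗ₜ[R] g) W) :
    (1 : L) ⊗ₜ[R] x ∈ ⨆ n, fil L (L ⊗[R] H) ((fun s => (1 : L) ⊗ₜ[R] s) '' S) n := by
  let W' : Submodule R H := (W.restrictScalars R).comap (TensorProduct.mk R F H 1)
  let y : H ⊗[R] H := Coalgebra.comul (R := R) x - x ⊗ₜ[R] g
  have hyF : theta F y ∈ LinearMap.range (W.subtype.rTensor (F ⊗[R] H)) := by
    rw [theta_sub_tmul F]
    exact mem_wtSub.1 hx
  let j : H ⧸ W' →ₗ[R] (F ⊗[R] H) ⧸ W :=
    W'.liftQ ((W.mkQ.restrictScalars R) ∘ₗ TensorProduct.mk R F H 1)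
      fun w hw => (Submodule.Quotient.mk_eq_zero W).2 hw
  have hj : Function.Injective j := by
    rw [← LinearMap.ker_eq_bot, eq_bot_iff]
    intro q hq
    obtain ⟨w, rfl⟩ := W'.mkQ_surjective q
    exact (Submodule.Quotient.mk_eq_zero W').2 ((Submodule.Quotient.mk_eq_zero W).1 hq)
  let e := TensorProduct.AlgebraTensorModule.cancelBaseChange R F F ((F ⊗[R] H) ⧸ W) H
  have he : ∀ z : H ⊗[R] H, e (W.mkQ.rTensor (F ⊗[R] H) (theta F z)) =
      j.rTensor H (W'.mkQ.rTensor H z) := by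
    intro z
    induction z with
    | zero => simp
    | tmul p q =>
      rw [theta_tmul, LinearMap.rTensor_tmul, TensorProduct.AlgebraTensorModule.cancelBaseChange_tmul, one_smul]
      rfl
    | add y z hy hz => simp only [map_add, hy, hz]
  have h0 : W.mkQ.rTensor (F ⊗[R] H) (theta F y) = 0 := by
    obtain ⟨u, hu⟩ := hyF
    rw [← hu, ← LinearMap.comp_apply, ← LinearMap.rTensor_comp,
      show W.mkQ ∘ₗ W.subtype = 0 from LinearMap.ext fun w => (Submodule.Quotient.mk_eq_zero W).2 w.2,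
      LinearMap.rTensor_zero, LinearMap.zero_apply]
  have h1 : W'.mkQ.rTensor H y = 0 := by
    apply Module.Flat.rTensor_preserves_injective_linearMap (M := H) j hj
    rw [← he, h0, map_zero, map_zero]
  obtain ⟨z, hz⟩ := (rTensor_exact H (LinearMap.exact_subtype_mkQ W') W'.mkQ_surjective y).1 h1
  refine wtSub_iSup_fil_le (Set.mem_image_of_mem _ hg) (mem_wtSub.2 ?_)
  show Coalgebra.comul (R := L) ((1 : L) ⊗ₜ[R] x) - _ ∈ _
  rw [← theta_sub_tmul L]
  show theta L y ∈ _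
  rw [← hz]
  clear hz
  induction z with
  | zero => simp
  | tmul p q =>
    refine ⟨(⟨_, hP p p.2⟩ : (⨆ n, fil L (L ⊗[R] H) ((fun s => (1 : L) ⊗ₜ[R] s) '' S) n : Submodule L (L ⊗[R] H)))
      ⊗ₜ[L] ((1 : L) ⊗ₜ[R] q), ?_⟩
    rw [LinearMap.rTensor_tmul, LinearMap.rTensor_tmul, theta_tmul]
    rfl
  | add y z hy hz => rw [map_add, map_add]; exact add_mem hy hz

/-- the reduction of a weighted group is weighted -/
theorem isWeighted_transfer (hinj : Function.Injective fun x : H => (1 : F) ⊗ₜ[R] x) (S : Set H)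
    (h : IsWeighted F (F ⊗[R] H) ((fun s => (1 : F) ⊗ₜ[R] s) '' S)) :
    IsWeighted L (L ⊗[R] H) ((fun s => (1 : L) ⊗ₜ[R] s) '' S) := by
  classical
  let P : Submodule F (F ⊗[R] H) → Prop := fun W => ∀ x : H, (1 : F) ⊗ₜ[R] x ∈ W →
    (1 : L) ⊗ₜ[R] x ∈ ⨆ n, fil L (L ⊗[R] H) ((fun s => (1 : L) ⊗ₜ[R] s) '' S) n
  have key : ∀ n, P (fil F (F ⊗[R] H) ((fun s => (1 : F) ⊗ₜ[R] s) '' S) n) := by
    intro n
    induction n with
    | zero =>
      intro x hx
      have hx' : (1 : F) ⊗ₜ[R] x = 0 := (Submodule.mem_bot F).1 hx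
      rw [hinj (hx'.trans (tmul_zero H (1 : F)).symm), tmul_zero]
      exact Submodule.zero_mem _
    | succ n ih =>
      let W₀ := fil F (F ⊗[R] H) ((fun s => (1 : F) ⊗ₜ[R] s) '' S) n
      have hs : ∀ s : Finset ((fun s => (1 : F) ⊗ₜ[R] s) '' S : Set (F ⊗[R] H)),
          P (W₀ ⊔ ⨆ g ∈ s, wtSub F (g : F ⊗[R] H) W₀) ∧
          IsSubcomod (k := F) (A := F ⊗[R] H) (W₀ ⊔ ⨆ g ∈ s, wtSub F (g : F ⊗[R] H) W₀) := by
        intro s
        induction s using Finset.induction with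
        | empty => simpa using ⟨ih, isSubcomod_fil _ n⟩
        | insert a s _ hs =>
          obtain ⟨_, ⟨g, hg, rfl⟩⟩ := a
          refine ⟨fun x hx => transfer_step F L hg _ hs.1 x ?_, ?_⟩
          · have hle : W₀ ⊔ (wtSub F ((1 : F) ⊗ₜ[R] g) W₀ ⊔ ⨆ g ∈ s, wtSub F (g : F ⊗[R] H) W₀) ≤
                wtSub F ((1 : F) ⊗ₜ[R] g) (W₀ ⊔ ⨆ g ∈ s, wtSub F (g : F ⊗[R] H) W₀) :=
              sup_le (le_sup_left.trans (le_wtSub hs.2 _))
                (sup_le (wtSub_mono le_sup_left) (le_sup_right.trans (le_wtSub hs.2 _)))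
            refine hle ?_
            rwa [Finset.iSup_insert] at hx
          · rw [Finset.iSup_insert, sup_left_comm]
            refine isSubcomod_iff.2 fun φ v hv => ?_
            obtain ⟨p, hp, q, hq, rfl⟩ := Submodule.mem_sup.1 hv
            rw [map_add]
            exact add_mem (Submodule.mem_sup_left (IsSubcomod.actL_mem (isSubcomod_wtSub (isSubcomod_fil _ n) _) φ hp))
              (Submodule.mem_sup_right (IsSubcomod.actL_mem hs.2 φ hq))
      intro x hx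
      have hx' : (1 : F) ⊗ₜ[R] x ∈ ⨆ g : ((fun s => (1 : F) ⊗ₜ[R] s) '' S : Set (F ⊗[R] H)),
        wtSub F (g : F ⊗[R] H) W₀ := hx
      rw [Submodule.mem_iSup_iff_exists_finset] at hx'
      obtain ⟨s, hxs⟩ := hx'
      exact (hs s).1 x (Submodule.mem_sup_right hxs)
  refine eq_top_iff.2 fun z _ => ?_
  induction z with
  | zero => exact Submodule.zero_mem _
  | tmul l x =>
    have hx : (1 : F) ⊗ₜ[R] x ∈ ⨆ n, fil F (F ⊗[R] H) ((fun s => (1 : F) ⊗ₜ[R] s) '' S) n :=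
      h.symm ▸ Submodule.mem_top
    obtain ⟨n, hn⟩ := (Submodule.mem_iSup_of_directed _ (fil_mono _).directed_le).1 hx
    rw [show l ⊗ₜ[R] x = l • ((1 : L) ⊗ₜ[R] x) by simp [TensorProduct.smul_tmul']]
    exact Submodule.smul_mem _ l (key n x hn)
  | add y z hy hz => exact add_mem (hy trivial) (hz trivial)

omit [Module.Flat R H] in
theorem isGroupLikeElem_one_tmul {g : H} (hg : IsGroupLikeElem R g) :
    IsGroupLikeElem F ((1 : F) ⊗ₜ[R] g) := by
  constructor
  · simp [TensorProduct.counit_tmul, hg.counit_eq_one]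
  · rw [comul_one_tmul, hg.comul_eq_tmul_self, theta_tmul]

end Transfer

end Groth.Agent.HopfUnip
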