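import Groth.Agent.HopfUnip.Diag
import Groth.Agent.HopfUnip.Transfer
import Groth.Agent.HopfUnip.Primitive
import Groth.Agent.Comod.Subcoalg

/-!
# Commutative groups: the weight decomposition and the largest unipotent quotient
-/

set_option autoImplicit false
universe u v w

open TensorProduct

namespace Groth.Agent.HopfUnip

open Groth.Agent.Comod Groth.Agent.HopfFF Groth.Agent.NormalQuot HopfRep

section Map

variable {k : Type u} [Field k] {C : Type v} [AddCommGroup C] [Module k C] [Coalgebra k C]
  {D : Type w} [AddCommGroup D] [Module k D] [Coalgebra k D]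

theorem map_fil_mem (f : C →ₗ[k] D)
    (hf : ∀ x, Coalgebra.comul (R := k) (f x) = TensorProduct.map f f (Coalgebra.comul (R := k) x))
    {S : Set C} {T : Set D} (hST : Set.MapsTo f S T) :
    ∀ n, ∀ v ∈ fil k C S n, f v ∈ fil k D T n
  | 0 => fun v hv => by rw [(Submodule.mem_bot k).1 hv, map_zero]; exact Submodule.zero_mem _
  | n + 1 => fun v hv => by
    induction hv using Submodule.iSup_induction' with
    | mem g v hv =>
      refine wtSub_le_fil_succ (g := f g) (hST g.2) n ?_
      rw [mem_wtSub]
      obtain ⟨y, hy⟩ := mem_wtSub.1 hv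
      let fW : fil k C S n →ₗ[k] fil k D T n :=
        LinearMap.codRestrict _ (f ∘ₗ (fil k C S n).subtype) fun w => map_fil_mem f hf hST n w w.2
      refine ⟨TensorProduct.map fW f y, ?_⟩
      have e : TensorProduct.map f f (Comod.coact (k := k) (A := C) v - v ⊗ₜ[k] (g : C)) =
          Comod.coact (k := k) (A := D) (f v) - f v ⊗ₜ[k] f g := by
        rw [map_sub, TensorProduct.map_tmul]
        congr 1
        exact (hf v).symm
      refine Eq.trans ?_ e
      rw [← hy, LinearMap.rTensor, ← LinearMap.comp_apply, ← TensorProduct.map_comp, LinearMap.rTensor,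
        ← LinearMap.comp_apply, ← TensorProduct.map_comp]
      rfl
    | zero => simp
    | add x y _ _ hx hy => rw [map_add]; exact add_mem hx hy

end Map

section Decomposition

variable {k : Type u} [Field k] {A : Type v} [AddCommGroup A] [Module k A] [Coalgebra k A]

theorem mem_wtSub_of_slice {V : Type w} [AddCommGroup V] [Module k V] [Comod k A V] {g : A} {W : Submodule k V}
    {v : V} (h : v ∈ wtSub k g W) (φ : A →ₗ[k] k) : φ g • v - actL φ v ∈ W := by
  simpa using neg_mem (mem_wtSub_iff_slR.1 h φ)

/-- a functional of weight zero is locally nilpotent -/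
theorem pow_actL_eq_zero {V : Type w} [AddCommGroup V] [Module k V] [Comod k A V] {g : A} {φ : A →ₗ[k] k}
    (hφ : φ g = 0) : ∀ n, ∀ v ∈ fil k V ({g} : Set A) n, ((actL (V := V) φ : V →ₗ[k] V) ^ n) v = 0 := by
  intro n
  induction n with
  | zero => intro v hv; rw [(Submodule.mem_bot k).1 hv, map_zero]
  | succ n ih =>
    intro v hv
    have hv' : v ∈ ⨆ g' : ({g} : Set A), wtSub k (g' : A) (fil k V ({g} : Set A) n) := hv
    rw [iSup_unique] at hv'
    rw [pow_succ, Module.End.mul_apply]
    refine ih _ ?_
    have := mem_wtSub_iff_slR.1 hv' φ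
    rwa [show φ ((default : ({g} : Set A)) : A) = 0 from hφ, zero_smul, sub_zero] at this

variable {V : Type w} [AddCommGroup V] [Module k V] [cV : Comod k A V] [Coalgebra.IsCocomm k A]

theorem actL_comm (φ ψ : A →ₗ[k] k) (v : V) : actL φ (actL ψ v) = actL ψ (actL φ v) := by
  have hc : conv φ ψ = conv ψ φ := by
    ext a
    simp only [conv, LinearMap.comp_apply, LinearEquiv.coe_coe]
    conv_rhs => rw [← Coalgebra.comm_comul k a]
    generalize Coalgebra.comul (R := k) a = y
    induction y with
    | zero => simp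
    | tmul p q => simp [mul_comm]
    | add y z hy hz => simp only [map_add, hy, hz]
  rw [actL_actL, actL_actL, hc]

/-- the vectors of a single weight span everything that is weighted -/
theorem fil_le_iSup_single {S : Set A} (hS : ∀ g ∈ S, IsGroupLikeElem k g) :
    ∀ n, fil k V S n ≤ ⨆ g : S, ⨆ m, fil k V ({(g : A)} : Set A) m := by
  classical
  intro n
  induction n with
  | zero => exact bot_le
  | succ n ih =>
    refine iSup_le fun g v hv => ?_
    obtain ⟨M, hM, hMφ⟩ := exists_fg_slR_mem (Comod.coact (k := k) (A := A) v - v ⊗ₜ[k] (g : A))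
    haveI : Module.Finite k M := Module.Finite.iff_fg.2 hM
    let F := M ⊓ fil k V S n
    have hF : F.FG := Module.Finite.iff_fg.1 (Module.Finite.of_injective
      (Submodule.inclusion (inf_le_left : F ≤ M)) (Submodule.inclusion_injective _))
    -- finitely many weights and bounded height
    obtain ⟨s, m, hsm⟩ : ∃ (s : Finset S) (m : ℕ), F ≤ ⨆ h ∈ s, fil k V ({(h : A)} : Set A) m := by
      have hle : F ≤ ⨆ p : Finset S × ℕ, ⨆ h ∈ p.1, fil k V ({(h : A)} : Set A) p.2 := by
        refine (inf_le_right.trans ih).trans (iSup_le fun h => iSup_le fun m => ?_)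
        exact le_iSup_of_le ({h}, m) (by simp)
      have hdir : Directed (· ≤ ·) fun p : Finset S × ℕ => ⨆ h ∈ p.1, fil k V ({(h : A)} : Set A) p.2 :=
        Monotone.directed_le fun p q (hpq : p ≤ q) => iSup₂_le fun h hh =>
          le_iSup₂_of_le h ((Prod.le_def.1 hpq).1 hh) (fil_mono _ (Prod.le_def.1 hpq).2)
      obtain ⟨t, ht⟩ := hF
      rw [← ht] at hle ⊢
      have : ∀ x ∈ t, ∃ p : Finset S × ℕ, x ∈ ⨆ h ∈ p.1, fil k V ({(h : A)} : Set A) p.2 := fun x hx =>
        (Submodule.mem_iSup_of_directed _ hdir).1 (hle (Submodule.subset_span hx))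
      choose! p hp using this
      refine ⟨t.sup (fun x => (p x).1), t.sup (fun x => (p x).2), Submodule.span_le.2 fun x hx => ?_⟩
      have hle' : (⨆ h ∈ (p x).1, fil k V ({(h : A)} : Set A) (p x).2) ≤
          ⨆ h ∈ t.sup (fun x => (p x).1), fil k V ({(h : A)} : Set A) (t.sup fun x => (p x).2) :=
        iSup₂_le fun h hh => le_iSup₂_of_le h (Finset.le_sup (f := fun x => (p x).1) hx hh)
          (fil_mono _ (Finset.le_sup (f := fun x => (p x).2) hx))
      exact hle' (hp x hx)
    -- the functional which sees the weight `g` only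
    obtain ⟨φ, hφg, hφ⟩ : ∃ φ : A →ₗ[k] k, φ (g : A) = 1 ∧ ∀ h ∈ s, h ≠ g → φ (h : A) = 0 := by
      have hli : LinearIndepOn k id (insert (g : A) ((fun h : S => (h : A)) '' (↑(s.erase g) : Set S))) :=
        (linearIndepOn_isGroupLikeElem (R := k) (A := A)).mono (by
          rintro x (rfl | ⟨h, -, rfl⟩)
          · exact hS _ g.2
          · exact hS _ h.2)
      have hnot := ((linearIndepOn_id_insert (by
        rintro ⟨h, hh, he⟩
        exact (Finset.mem_erase.1 hh).1 (Subtype.ext he))).1 hli).2
      obtain ⟨φ, hφ, h0⟩ := Submodule.exists_le_ker_of_notMem hnot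
      exact ⟨(φ (g : A))⁻¹ • φ, by simp [hφ], fun h hh hne => by
        have : φ (h : A) = 0 := h0 (Submodule.subset_span ⟨h, Finset.mem_erase.2 ⟨hne, hh⟩, rfl⟩)
        simp [this]⟩
    let T : V →ₗ[k] V := actL φ
    let G : Submodule k V := ⨆ j, fil k V ({(g : A)} : Set A) j
    have hGsub : ∀ (i : ℕ), ∀ x ∈ G, (T ^ i) x ∈ G := by
      intro i
      induction i with
      | zero => exact fun x hx => hx
      | succ i ihi =>
        intro x hx
        rw [pow_succ, Module.End.mul_apply]
        exact ihi _ (IsSubcomod.actL_mem (isSubcomod_iSup fun j => isSubcomod_fil _ j) φ hx)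
    have hF' : ∀ x ∈ ⨆ h ∈ s, fil k V ({(h : A)} : Set A) m, (T ^ m) x ∈ G := by
      intro x hx
      have hle : (⨆ h ∈ s, fil k V ({(h : A)} : Set A) m) ≤ G.comap (T ^ m) := iSup₂_le fun h hh y hy => by
        show (T ^ m) y ∈ G
        by_cases hgh : h = g
        · subst hgh
          exact hGsub m y (Submodule.mem_iSup_of_mem m hy)
        · rw [pow_actL_eq_zero (hφ h hh hgh) m y hy]
          exact Submodule.zero_mem _
      exact hle hx
    have hv' : (T ^ m) v ∈ G := by
      refine wtSub_iSup_fil_le (Set.mem_singleton (g : A)) (mem_wtSub_iff_slR.2 fun ψ => ?_)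
      have hcomm : ∀ (i : ℕ) (x : V), actL ψ ((T ^ i) x) = (T ^ i) (actL ψ x) := by
        intro i
        induction i with
        | zero => exact fun x => rfl
        | succ i ihi =>
          intro x
          rw [pow_succ, Module.End.mul_apply, Module.End.mul_apply, ihi, actL_comm]
      rw [hcomm, ← map_smul, ← map_sub]
      refine hF' _ (hsm ⟨?_, mem_wtSub_iff_slR.1 hv ψ⟩)
      simpa [actL_apply] using hMφ ψ
    -- the rest
    let Z : Submodule k V := ⨆ h : S, ⨆ j, fil k V ({(h : A)} : Set A) j
    have hZ : IsSubcomod (k := k) (A := A) Z := isSubcomod_iSup fun h => isSubcomod_iSup fun j => isSubcomod_fil _ j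
    have hTZ : ∀ i, v - (T ^ i) v ∈ Z := by
      intro i
      induction i with
      | zero => simp
      | succ i ihi =>
        have h1 : v - T v ∈ Z := by
          have := ih (mem_wtSub_of_slice hv φ)
          rwa [hφg, one_smul] at this
        have h2 : T (v - (T ^ i) v) ∈ Z := IsSubcomod.actL_mem hZ φ ihi
        have e : v - (T ^ (i + 1)) v = (v - T v) + T (v - (T ^ i) v) := by
          rw [pow_succ', Module.End.mul_apply, map_sub]
          abel
        rw [e]
        exact add_mem h1 h2
    have hfin : (T ^ m) v ∈ Z := le_iSup (fun h : S => ⨆ j, fil k V ({(h : A)} : Set A) j) g hv'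
    simpa using add_mem (hTZ m) hfin

end Decomposition

section Commutative

variable {k : Type u} [Field k] {A : Type u} [CommRing A] [HopfAlgebra k A] [Coalgebra.IsCocomm k A]

theorem comul_antipode_of_cocomm (x : A) : Coalgebra.comul (R := k) (HopfAlgebraStruct.antipode k x) =
    TensorProduct.map (HopfAlgebraStruct.antipode k (A := A)) (HopfAlgebraStruct.antipode k (A := A))
      (Coalgebra.comul (R := k) x) := by
  rw [Groth.Agent.HopfLib.comul_antipode]
  first
    | rw [Coalgebra.comm_comul]
    | (conv_rhs => rw [← Coalgebra.comm_comul k x]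
       generalize Coalgebra.comul (R := k) x = z
       induction z with
       | zero => simp
       | tmul p q => simp
       | add y z hy hz => simp only [map_add, hy, hz])

variable (k A) in
/-- the part of weight one -/
noncomputable def unipPart : Submodule k A := ⨆ n, fil k A ({1} : Set A) n

theorem isSubcomod_unipPart : IsSubcomod (k := k) (A := A) (unipPart k A) :=
  isSubcomod_iSup fun n => isSubcomod_fil _ n

theorem slL_mem_unipPart (φ : A →ₗ[k] k) {b : A} (hb : b ∈ unipPart k A) :
    slL φ (Coalgebra.comul (R := k) b) ∈ unipPart k A := by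
  have hsw : ∀ z : A ⊗[k] A, slR φ (TensorProduct.comm k A A z) = slL φ z := by
    intro z
    induction z with
    | zero => simp
    | tmul a b => simp
    | add y z hy hz => simp only [map_add, hy, hz]
  rw [← hsw, Coalgebra.comm_comul]
  exact IsSubcomod.actL_mem isSubcomod_unipPart φ hb

theorem slR_mul_range_le {P Q R : Submodule k A} (hPQ : ∀ p ∈ P, ∀ q ∈ Q, p * q ∈ R) {x y : A ⊗[k] A}
    (hx : x ∈ LinearMap.range (P.subtype.rTensor A)) (hy : y ∈ LinearMap.range (Q.subtype.rTensor A)) :
    x * y ∈ LinearMap.range (R.subtype.rTensor A) := by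
  obtain ⟨a, rfl⟩ := hx
  obtain ⟨b, rfl⟩ := hy
  induction a with
  | zero => simp
  | tmul p c =>
    induction b with
    | zero => simp
    | tmul q d =>
      exact ⟨(⟨(p : A) * q, hPQ p p.2 q q.2⟩ : R) ⊗ₜ[k] (c * d), by simp⟩
    | add y z hy hz => rw [map_add, mul_add]; exact add_mem hy hz
  | add y z hy hz => rw [map_add, add_mul]; exact add_mem hy hz

theorem mul_mem_fil : ∀ i j, ∀ v ∈ fil k A ({1} : Set A) i, ∀ w ∈ fil k A ({1} : Set A) j,
    v * w ∈ fil k A ({1} : Set A) (i + j) := by
  have key : ∀ s i j, i + j = s → ∀ v ∈ fil k A ({1} : Set A) i, ∀ w ∈ fil k A ({1} : Set A) j,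
      v * w ∈ fil k A ({1} : Set A) (i + j) := by
    intro s
    induction s using Nat.strong_induction_on with
    | _ s ih =>
      intro i j hs v hv w hw
      rcases i with _ | i
      · rw [(Submodule.mem_bot k).1 hv, zero_mul]; exact Submodule.zero_mem _
      rcases j with _ | j
      · rw [(Submodule.mem_bot k).1 hw, mul_zero]; exact Submodule.zero_mem _
      have hv1 : v ∈ ⨆ g : ({1} : Set A), wtSub k (g : A) (fil k A ({1} : Set A) i) := hv
      have hw1 : w ∈ ⨆ g : ({1} : Set A), wtSub k (g : A) (fil k A ({1} : Set A) j) := hw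
      rw [iSup_unique] at hv1 hw1
      refine wtSub_le_fil_succ (g := (1 : A)) (Set.mem_singleton _) (i + 1 + j) (mem_wtSub.2 ?_)
      have e : Comod.coact (k := k) (A := A) (v * w) - (v * w) ⊗ₜ[k] (1 : A) =
          (Coalgebra.comul (R := k) v - v ⊗ₜ[k] (1 : A)) * Coalgebra.comul (R := k) w +
          (v ⊗ₜ[k] (1 : A)) * (Coalgebra.comul (R := k) w - w ⊗ₜ[k] (1 : A)) := by
        show Coalgebra.comul (R := k) (v * w) - _ = _
        rw [Bialgebra.comul_mul, sub_mul, mul_sub, Algebra.TensorProduct.tmul_mul_tmul, mul_one]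
        abel
      rw [e]
      refine add_mem ?_ ?_
      · refine slR_mul_range_le (P := fil k A ({1} : Set A) i) (Q := fil k A ({1} : Set A) (j + 1))
          (fun p hp q hq => fil_mono _ (by omega) (ih (i + (j + 1)) (by omega) i (j + 1) rfl p hp q hq))
          (mem_wtSub.1 hv1) (isSubcomod_fil _ (j + 1) w hw)
      · refine slR_mul_range_le (P := fil k A ({1} : Set A) (i + 1)) (Q := fil k A ({1} : Set A) j)
          (fun p hp q hq => ih (i + 1 + j) (by omega) (i + 1) j rfl p hp q hq) ?_ (mem_wtSub.1 hw1)
        exact ⟨(⟨v, hv⟩ : fil k A ({1} : Set A) (i + 1)) ⊗ₜ[k] (1 : A), rfl⟩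
  exact fun i j => key (i + j) i j rfl

variable (k A) in
/-- the algebra of the largest unipotent quotient -/
noncomputable def unipAlg : Subalgebra k A :=
  (unipPart k A).toSubalgebra
    (Submodule.mem_iSup_of_mem 1 (wtSub_le_fil_succ (g := (1 : A)) (Set.mem_singleton _) 0
      (mem_wtSub_bot.2 (Bialgebra.comul_one.trans Algebra.TensorProduct.one_def))))
    fun v w hv hw => by
      obtain ⟨i, hi⟩ := (Submodule.mem_iSup_of_directed _ (fil_mono _).directed_le).1 hv
      obtain ⟨j, hj⟩ := (Submodule.mem_iSup_of_directed _ (fil_mono _).directed_le).1 hw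
      exact Submodule.mem_iSup_of_mem _ (mul_mem_fil i j v hi w hj)

theorem isHopfSubalgebra_unipAlg : SGA3.IsHopfSubalgebra k A (unipAlg k A) := by
  refine ⟨fun b hb => ?_, fun b hb => ?_⟩
  · exact comul_mem_range_map (B := unipPart k A) (fun φ x hx => IsSubcomod.actL_mem isSubcomod_unipPart φ hx)
      (fun φ x hx => slL_mem_unipPart φ hx) hb
  · obtain ⟨n, hn⟩ := (Submodule.mem_iSup_of_directed _ (fil_mono _).directed_le).1
      (show b ∈ unipPart k A from hb)
    exact Submodule.mem_iSup_of_mem n (map_fil_mem (HopfAlgebraStruct.antipode k (A := A))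
      comul_antipode_of_cocomm (T := ({1} : Set A)) (fun x hx => by
        rw [Set.mem_singleton_iff.1 hx, HopfAlgebra.antipode_one]; exact Set.mem_singleton _) n b hn)

theorem isUnipotent_unipAlg :
    letI := hopfSub (unipAlg k A) isHopfSubalgebra_unipAlg
    IsUnipotent k (unipAlg k A) := by
  letI := hopfSub (unipAlg k A) isHopfSubalgebra_unipAlg
  rw [isUnipotent_iff_isWeighted]
  let ι := valHom (unipAlg k A) isHopfSubalgebra_unipAlg
  obtain ⟨r, hr⟩ := LinearMap.exists_leftInverse_of_injective (unipAlg k A).val.toLinearMap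
    (LinearMap.ker_eq_bot.2 Subtype.val_injective)
  have key : ∀ n, ∀ b : unipAlg k A, (b : A) ∈ fil k A ({1} : Set A) n →
      b ∈ fil k (unipAlg k A) ({1} : Set (unipAlg k A)) n := by
    intro n
    induction n with
    | zero =>
      intro b hb
      rw [show b = 0 from Subtype.ext ((Submodule.mem_bot k).1 hb)]
      exact Submodule.zero_mem _
    | succ n ih =>
      intro b hb
      have hb1 : (b : A) ∈ ⨆ g : ({1} : Set A), wtSub k (g : A) (fil k A ({1} : Set A) n) := hb
      rw [iSup_unique] at hb1
      refine wtSub_le_fil_succ (g := (1 : unipAlg k A)) (Set.mem_singleton _) n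
        (mem_wtSub_iff_slR.2 fun φ => ih _ ?_)
      have h := mem_wtSub_iff_slR.1 hb1 (φ ∘ₗ r)
      have hr' : ∀ x : unipAlg k A, r (x : A) = x := fun x => LinearMap.congr_fun hr x
      have e1 : ((actL φ b - φ 1 • b : unipAlg k A) : A) = actL (φ ∘ₗ r) (b : A) - φ 1 • (b : A) := by
        rw [AddSubgroupClass.coe_sub, SetLike.val_smul]
        congr 1
        rw [actL_apply, actL_apply]
        show (slR φ (Coalgebra.comul (R := k) b)).1 = slR (φ ∘ₗ r) (Coalgebra.comul (R := k) (b : A))
        have hc : Coalgebra.comul (R := k) (b : A) = TensorProduct.map (unipAlg k A).val.toLinearMap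
            (unipAlg k A).val.toLinearMap (Coalgebra.comul (R := k) b) :=
          (CoalgHomClass.map_comp_comul_apply ι b).symm
        rw [hc]
        generalize Coalgebra.comul (R := k) b = z
        induction z with
        | zero => simp
        | tmul p q => simp [hr']
        | add y z hy hz => simp only [map_add, Subalgebra.coe_add, hy, hz]
      rw [e1]
      have h1 : (φ ∘ₗ r) (((default : ({1} : Set A)) : A)) = φ 1 := by
        show φ (r ((1 : unipAlg k A) : A)) = φ 1
        rw [hr']
      rwa [h1] at h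
  refine eq_top_iff.2 fun b _ => ?_
  obtain ⟨n, hn⟩ := (Submodule.mem_iSup_of_directed _ (fil_mono _).directed_le).1
    (show (b : A) ∈ unipPart k A from b.2)
  exact Submodule.mem_iSup_of_mem n (key n b hn)

/-- modulo the unipotent part a trigonalizable commutative group is diagonalizable -/
theorem isDiagonalizable_of_trig (hT : IsTrigonalizable k A) (J : Ideal A) [J.IsHopfIdeal k]
    (hJ : ∀ w ∈ unipPart k A, w - Coalgebra.counit (R := k) w • 1 ∈ J) : IsDiagonalizable k (A ⧸ J) := by
  refine eq_top_iff.2 fun q _ => ?_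
  obtain ⟨a, rfl⟩ := Ideal.Quotient.mk_surjective q
  let π := Bialgebra.Quotient.mkBialgHom (R := k) J
  let R : Submodule k A := (Submodule.span k {b : A ⧸ J | IsGroupLikeElem k b}).comap (π : A →ₐ[k] A ⧸ J).toLinearMap
  have ha : a ∈ ⨆ n, fil k A {g : A | IsGroupLikeElem k g} n :=
    (isTrigonalizable_iff_isWeighted.1 hT).symm ▸ Submodule.mem_top
  refine (show (⨆ n, fil k A {g : A | IsGroupLikeElem k g} n) ≤ R from
    (iSup_le (fil_le_iSup_single fun g hg => hg)).trans (iSup_le fun g => iSup_le fun m v hv => ?_)) ha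
  have hg : IsGroupLikeElem k (g : A) := g.2
  let s : A := HopfAlgebraStruct.antipode k (g : A)
  have hw : s * v ∈ unipPart k A := Submodule.mem_iSup_of_mem m
    (map_fil_mem (LinearMap.mulLeft k s) (fun x => by
      rw [LinearMap.mulLeft_apply, Bialgebra.comul_mul, hg.antipode.comul_eq_tmul_self]
      generalize Coalgebra.comul (R := k) x = z
      induction z with
      | zero => simp
      | tmul p q => simp [s]
      | add y z hy hz => simp only [map_add, mul_add, hy, hz])
      (T := ({1} : Set A)) (fun x hx => by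
        rw [Set.mem_singleton_iff.1 hx, LinearMap.mulLeft_apply, hg.antipode_mul_cancel]; rfl) m v hv)
  have hv' : v = (g : A) * (s * v) := by rw [← mul_assoc, hg.mul_antipode_cancel, one_mul]
  show π v ∈ Submodule.span k {b : A ⧸ J | IsGroupLikeElem k b}
  have hπw : π (s * v) = Coalgebra.counit (R := k) (s * v) • (1 : A ⧸ J) := by
    have := Ideal.Quotient.eq_zero_iff_mem.2 (hJ _ hw)
    rw [map_sub, sub_eq_zero] at this
    exact this
  rw [hv', map_mul, hπw, mul_smul_comm, mul_one]
  exact Submodule.smul_mem _ _ (Submodule.subset_span (IsGroupLikeElem.map π hg))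

end Commutative

section BaseChange

variable {k : Type u} [Field k] (K : Type u) [Field K] [Algebra k K] {A : Type v} [CommRing A] [Bialgebra k A]

/-- the weight-one filtration commutes with extension of the ground field -/
theorem fil_baseChange_le :
    ∀ n, fil K (K ⊗[k] A) ({1} : Set (K ⊗[k] A)) n ≤
      (fil k A ({1} : Set A) n).baseChange K := by
  intro n
  induction n with
  | zero => exact bot_le
  | succ n ih =>
    refine iSup_le fun g v hv => ?_
    let W := fil k A ({1} : Set A) n
    let W' := fil k A ({1} : Set A) (n + 1)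
    let D : A →ₗ[k] (A ⧸ W) ⊗[k] A :=
      W.mkQ.rTensor A ∘ₗ (Coalgebra.comul (R := k) - (TensorProduct.mk k A A).flip 1)
    have hW' : LinearMap.ker D = W' := by
      ext a
      show W.mkQ.rTensor A (Coalgebra.comul (R := k) a - a ⊗ₜ[k] (1 : A)) = 0 ↔ _
      have h1 : a ∈ W' ↔ Coalgebra.comul (R := k) a - a ⊗ₜ[k] (1 : A) ∈ LinearMap.range (W.subtype.rTensor A) := by
        show a ∈ (⨆ g : ({1} : Set A), wtSub k (g : A) W) ↔ _
        rw [iSup_unique]
        rfl
      rw [h1]
      exact (rTensor_exact A (LinearMap.exact_subtype_mkQ W) W.mkQ_surjective _)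
    have hg : (g : K ⊗[k] A) = 1 := g.2
    let E := TensorProduct.AlgebraTensorModule.distribBaseChange k K (A ⧸ W) A
    let q : K ⊗[k] A →ₗ[K] K ⊗[k] (A ⧸ W) := W.mkQ.baseChange K
    have hq : ∀ z ∈ fil K (K ⊗[k] A) ({1} : Set (K ⊗[k] A)) n, q z = 0 := by
      intro z hz
      obtain ⟨y, rfl⟩ : z ∈ LinearMap.range (W.subtype.baseChange K) := ih hz
      show (W.mkQ.baseChange K) ((W.subtype.baseChange K) y) = 0
      rw [← LinearMap.comp_apply, ← LinearMap.baseChange_comp,
        show W.mkQ ∘ₗ W.subtype = 0 from LinearMap.ext fun w => (Submodule.Quotient.mk_eq_zero W).2 w.2,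
        LinearMap.baseChange_zero, LinearMap.zero_apply]
    have hE : ∀ x : K ⊗[k] A, E (D.lTensor K x) = q.rTensor (K ⊗[k] A)
        (Coalgebra.comul (R := K) x - x ⊗ₜ[K] (1 : K ⊗[k] A)) := by
      intro x
      rw [map_sub, comul_baseChange, LinearMap.rTensor_tmul]
      induction x with
      | zero => simp
      | tmul r a =>
        rw [LinearMap.lTensor_tmul, LinearMap.lTensor_tmul]
        show E (r ⊗ₜ[k] W.mkQ.rTensor A (Coalgebra.comul (R := k) a - a ⊗ₜ[k] (1 : A))) = _
        rw [map_sub, tmul_sub, map_sub]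
        congr 1
        generalize Coalgebra.comul (R := k) a = z
        induction z with
        | zero => simp
        | tmul p t => rfl
        | add y z hy hz => simp only [tmul_add, map_add, hy, hz]
      | add y z hy hz =>
        simp only [map_add, add_tmul, hy, hz]
        abel
    have h0 : D.lTensor K v = 0 := by
      apply E.injective
      rw [hE, map_zero]
      obtain ⟨y, hy⟩ := mem_wtSub.1 hv
      rw [show Coalgebra.comul (R := K) v - v ⊗ₜ[K] (1 : K ⊗[k] A) =
        (fil K (K ⊗[k] A) ({1} : Set (K ⊗[k] A)) n).subtype.rTensor (K ⊗[k] A) y from by rw [hy, hg]; rfl,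
        ← LinearMap.comp_apply, ← LinearMap.rTensor_comp,
        show q ∘ₗ (fil K (K ⊗[k] A) ({1} : Set (K ⊗[k] A)) n).subtype = 0 from
          LinearMap.ext fun z => hq z z.2,
        LinearMap.rTensor_zero, LinearMap.zero_apply]
    obtain ⟨y, rfl⟩ := (Module.Flat.lTensor_exact K (LinearMap.exact_subtype_ker_map D) v).1 h0
    clear h0 hv
    induction y with
    | zero => simp
    | tmul r a =>
      exact Submodule.tmul_mem_baseChange_of_mem r
        (le_of_eq hW' a.2)
    | add y z hy hz => rw [map_add]; exact add_mem hy hz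

end BaseChange

end Groth.Agent.HopfUnip
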