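import Groth.Agent.HopfUnip.Basic
import Groth.Agent.NormalQuot.Sub

/-!
# Trigonalizable groups are extensions of diagonalizable groups by unipotent groups
-/

set_option autoImplicit false
universe u v w

open TensorProduct WithConv

namespace Groth.Agent.HopfUnip

open Groth.Agent.Comod Groth.Agent.HopfFF Groth.Agent.NormalQuot HopfRep

variable {k : Type u} [Field k] {A : Type u} [CommRing A] [HopfAlgebra k A]
  {B : Type u} [CommRing B] [HopfAlgebra k B] (ψ : B →ₐc[k] A)

/-- the ideal of the kernel of a homomorphism -/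
noncomputable def kerIdeal : Ideal A :=
  Ideal.map (ψ : B →+* A) (RingHom.ker (Bialgebra.counitAlgHom k B))

theorem kerIdeal_le {R : Type*} [CommRing R] [Algebra k R] (Φ : A →ₐ[k] R)
    (h : ∀ b, Φ (ψ b) = algebraMap k R (Coalgebra.counit (R := k) b)) :
    kerIdeal ψ ≤ RingHom.ker Φ :=
  Ideal.map_le_iff_le_comap.2 fun b hb => by
    rw [Ideal.mem_comap, RingHom.mem_ker]
    refine (h b).trans ?_
    rw [show Coalgebra.counit (R := k) b = 0 from hb, map_zero]

theorem mk_kerIdeal (b : B) :
    Ideal.Quotient.mk (kerIdeal ψ) (ψ b) = algebraMap k (A ⧸ kerIdeal ψ) (Coalgebra.counit (R := k) b) := by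
  rw [← Ideal.Quotient.mk_algebraMap, Ideal.Quotient.eq, ← AlgHomClass.commutes ψ, ← map_sub]
  exact Ideal.mem_map_of_mem _ (by simp [RingHom.mem_ker])

theorem isHopfIdeal_kerIdeal : (kerIdeal ψ).IsHopfIdeal k := by
  let J := kerIdeal ψ
  refine { counit_eq_zero := fun x hx => ?_, map_mkQ_comul_eq_zero := fun x hx => ?_, antipode_mem := fun x hx => ?_ }
  · exact kerIdeal_le ψ (Bialgebra.counitAlgHom k A) (fun b => CoalgHomClass.counit_comp_apply ψ b) hx
  · let π := Ideal.Quotient.mkₐ k J
    have h : x ∈ RingHom.ker ((Algebra.TensorProduct.map π π).comp (Bialgebra.comulAlgHom k A)) := by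
      refine kerIdeal_le ψ _ (fun b => ?_) hx
      show Algebra.TensorProduct.map π π (Coalgebra.comul (R := k) (ψ b)) = _
      rw [← CoalgHomClass.map_comp_comul_apply ψ b]
      have e : ∀ z : B ⊗[k] B, Algebra.TensorProduct.map π π
          (TensorProduct.map (ψ : B →ₗ[k] A) (ψ : B →ₗ[k] A) z) =
          algebraMap k ((A ⧸ J) ⊗[k] (A ⧸ J)) (Coalgebra.counit (R := k)
            (TensorProduct.lid k B ((Coalgebra.counit (R := k) (A := B)).rTensor B z))) := by
        intro z
        induction z with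
        | zero => simp
        | tmul p q =>
          show (Ideal.Quotient.mk J (ψ p)) ⊗ₜ[k] (Ideal.Quotient.mk J (ψ q)) = _
          rw [mk_kerIdeal, mk_kerIdeal]
          simp [Algebra.TensorProduct.algebraMap_apply, Algebra.algebraMap_eq_smul_one, TensorProduct.smul_tmul',
            TensorProduct.tmul_smul, smul_smul, mul_comm, Algebra.TensorProduct.one_def]
        | add y z hy hz => simp only [map_add, hy, hz]
      refine (e _).trans ?_
      rw [Coalgebra.rTensor_counit_comul]
      simp
    exact h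
  · refine kerIdeal_le ψ (((Ideal.Quotient.mkₐ k J)).comp (HopfAlgebra.antipodeAlgHom k A)) (fun b => ?_) hx
      |> fun h => (Ideal.Quotient.eq_zero_iff_mem.1 h)
    show Ideal.Quotient.mk J (HopfAlgebra.antipode k (ψ b)) = _
    rw [← map_antipode, mk_kerIdeal, HopfAlgebra.counit_antipode]

theorem isConjStable_kerIdeal : IsConjStable k (kerIdeal ψ) := by
  haveI := isHopfIdeal_kerIdeal ψ
  refine isConjStable_of_isNormal _ fun R _ _ g h hh a ha => ?_
  rw [conv3_eq]
  refine kerIdeal_le ψ _ (fun b => ?_) ha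
  have h1 : preComp ψ (toConv h) = 1 := by
    refine WithConv.ofConv_injective (AlgHom.ext fun b => ?_)
    show h (ψ b) = algebraMap k R (Coalgebra.counit (R := k) b)
    have := hh (ψ (b - algebraMap k B (Coalgebra.counit (R := k) b)))
      (Ideal.mem_map_of_mem _ (by simp [RingHom.mem_ker]))
    rw [map_sub, map_sub, sub_eq_zero, AlgHomClass.commutes ψ, AlgHomClass.commutes h] at this
    exact this
  show (preComp ψ (toConv g * toConv h * inv' (toConv g))).ofConv b = _
  rw [map_mul, map_mul, h1, mul_one, ← map_mul, mul_inv', map_one]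
  rfl

theorem isHopfSubalgebra_range : SGA3.IsHopfSubalgebra k A (ψ : B →ₐ[k] A).range := by
  constructor
  · rintro b ⟨x, rfl⟩
    refine ⟨TensorProduct.map ((ψ : B →ₐ[k] A).rangeRestrict.toLinearMap)
      ((ψ : B →ₐ[k] A).rangeRestrict.toLinearMap) (Coalgebra.comul (R := k) x), ?_⟩
    rw [← LinearMap.comp_apply, ← TensorProduct.map_comp]
    exact CoalgHomClass.map_comp_comul_apply ψ x
  · rintro b ⟨x, rfl⟩
    exact ⟨HopfAlgebra.antipode k x, map_antipode ψ x⟩

theorem range_eq_invQ : (ψ : B →ₐ[k] A).range = invQ (k := k) (kerIdeal ψ) := by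
  haveI := isHopfIdeal_kerIdeal ψ
  refine eq_invQ_of_augIdealSpan_eq _ (isHopfSubalgebra_range ψ) (isConjStable_kerIdeal ψ) ?_
  rw [kerIdeal, Ideal.map, SGA3.augIdealSpan]
  congr 1
  ext a
  constructor
  · rintro ⟨b, hb, rfl⟩
    exact ⟨⟨b, rfl⟩, (CoalgHomClass.counit_comp_apply ψ b).trans hb⟩
  · rintro ⟨⟨b, rfl⟩, h0⟩
    exact ⟨b, (CoalgHomClass.counit_comp_apply ψ b).symm.trans h0, rfl⟩

/-- weights of an extension of a quotient group by a unipotent one -/
theorem isWeighted_of_extension {S : Set A} (hGL : ∀ g ∈ S, IsGroupLikeElem k g) (J : Ideal A) [J.IsHopfIdeal k]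
    (hR : Subalgebra.toSubmodule (ψ : B →ₐ[k] A).range ≤ ⨆ n, fil k A S n)
    (hJ : J = kerIdeal ψ) (hN : IsUnipotent k (A ⧸ J)) : IsWeighted k A S := by
  subst hJ
  rw [isUnipotent_iff_isWeighted] at hN
  refine isWeighted_of_forall (fun X _ _ _ hX => haveI := hX; exists_eigvec_of_sub fun U hU h0 => ?_) A
  -- a vector of `U` fixed by the unipotent subgroup
  let π := Bialgebra.Quotient.mkBialgHom (R := k) (kerIdeal ψ)
  let cU := ComodSub.Comod.restr (Comod.regular k A) U hU
  letI cN : Comod k (A ⧸ kerIdeal ψ) U := along (π : A →ₗc[k] A ⧸ kerIdeal ψ) cU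
  haveI : Nontrivial U := Submodule.nontrivial_iff_ne_bot.2 h0
  obtain ⟨x, hx0, g, rfl, hx⟩ := exists_eigvec_of_regular (V := U) (A := A ⧸ kerIdeal ψ)
    (fun g hg => by rw [Set.mem_singleton_iff.1 hg]; exact IsGroupLikeElem.one) hN
  have hinv : (x : A) ∈ invQ (k := k) (kerIdeal ψ) := by
    rw [mem_invQ, mem_semi, coactR_apply]
    have h1 : Coalgebra.comul (R := k) (x : A) = U.subtype.rTensor A (cU.coact x) :=
      (ComodSub.restr_coact_coe (Comod.regular k A) U hU x).symm
    rw [h1, ← LinearMap.comp_apply, LinearMap.lTensor_comp_rTensor, ← LinearMap.rTensor_comp_lTensor,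
      LinearMap.comp_apply]
    rw [show (Ideal.Quotient.mkₐ k (kerIdeal ψ)).toLinearMap.lTensor U (cU.coact x) = x ⊗ₜ[k] 1 from hx]
    simp
  rw [← range_eq_invQ] at hinv
  have hsub : IsSubcomod (k := k) (A := A) (U ⊓ Subalgebra.toSubmodule (ψ : B →ₐ[k] A).range) := by
    refine isSubcomod_iff.2 fun φ y hy => ⟨IsSubcomod.actL_mem hU φ hy.1, ?_⟩
    obtain ⟨z, hz⟩ := (isHopfSubalgebra_range ψ).1 y hy.2
    rw [actL_apply, show Comod.coact (k := k) (A := A) y = Coalgebra.comul (R := k) y from rfl, ← hz]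
    clear hz
    induction z with
    | zero => rw [map_zero, map_zero]; exact Submodule.zero_mem _
    | tmul p q => simpa using Subalgebra.smul_mem _ p.2 (φ q)
    | add y z hy hz => simpa using add_mem hy hz
  obtain ⟨u, hu, hu0, g, hg, hgu⟩ := exists_eigvec_mem hGL hsub
    (fun hb => hx0 (Subtype.ext ((Submodule.eq_bot_iff _).1 hb (x : A) ⟨x.2, hinv⟩)))
    (inf_le_right.trans hR)
  exact ⟨u, hu.1, hu0, g, hg, hgu⟩

/-- an extension of a diagonalizable group by a unipotent one is trigonalizable -/
theorem isTrigonalizable_of_extension (J : Ideal A) [J.IsHopfIdeal k] (hB : IsDiagonalizable k B)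
    (hJ : J = kerIdeal ψ) (hN : IsUnipotent k (A ⧸ J)) : IsTrigonalizable k A := by
  rw [isTrigonalizable_iff_isWeighted]
  refine isWeighted_of_extension ψ (fun _ h => h) J ?_ hJ hN
  rintro a ⟨b, rfl⟩
  have : b ∈ Submodule.span k {b : B | IsGroupLikeElem k b} := hB.symm ▸ Submodule.mem_top
  induction this using Submodule.span_induction with
  | mem g hg =>
    exact Submodule.mem_iSup_of_mem 1 (wtSub_le_fil_succ (g := ψ g) (IsGroupLikeElem.map ψ hg) 0
      (mem_wtSub_bot.2 (IsGroupLikeElem.map ψ hg).comul_eq_tmul_self))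
  | zero => simp
  | add x y _ _ hx hy => simpa using add_mem hx hy
  | smul c x _ hx => simpa using Submodule.smul_mem _ c hx

variable (k A) in
/-- the subalgebra of characters -/
noncomputable def charAlg : Subalgebra k A := Algebra.adjoin k {a : A | IsGroupLikeElem k a}

theorem charAlg_toSubmodule :
    Subalgebra.toSubmodule (charAlg k A) = Submodule.span k {a : A | IsGroupLikeElem k a} := by
  rw [charAlg, Algebra.adjoin_eq_span]
  refine congrArg _ (le_antisymm (fun a ha => ?_) Submonoid.subset_closure)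
  induction ha using Submonoid.closure_induction with
  | mem x hx => exact hx
  | one => exact IsGroupLikeElem.one
  | mul x y _ _ hx hy => exact hx.mul hy

theorem isHopfSubalgebra_charAlg : SGA3.IsHopfSubalgebra k A (charAlg k A) := by
  constructor
  · intro b hb
    have : b ∈ Submodule.span k {a : A | IsGroupLikeElem k a} := charAlg_toSubmodule (k := k) (A := A) ▸ hb
    induction this using Submodule.span_induction with
    | mem g hg =>
      exact ⟨(⟨g, Algebra.subset_adjoin hg⟩ : charAlg k A) ⊗ₜ[k] ⟨g, Algebra.subset_adjoin hg⟩, by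
        rw [TensorProduct.map_tmul]; exact hg.comul_eq_tmul_self.symm⟩
    | zero => simp
    | add x y hx' hy' hx hy =>
      rw [map_add]
      exact add_mem (hx (le_of_eq charAlg_toSubmodule.symm hx')) (hy (le_of_eq charAlg_toSubmodule.symm hy'))
    | smul c x hx' hx =>
      rw [map_smul]
      exact Submodule.smul_mem _ _ (hx (le_of_eq charAlg_toSubmodule.symm hx'))
  · intro b hb
    induction hb using Algebra.adjoin_induction with
    | mem g hg => exact Algebra.subset_adjoin hg.antipode
    | algebraMap r => simp [Algebra.algebraMap_eq_smul_one, Subalgebra.smul_mem]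
    | add x y _ _ hx hy => simpa using add_mem hx hy
    | mul x y _ _ hx hy =>
      rw [show HopfAlgebraStruct.antipode k (x * y) = HopfAlgebraStruct.antipode k x * HopfAlgebraStruct.antipode k y
        from map_mul (HopfAlgebra.antipodeAlgHom k A) x y]
      exact mul_mem hx hy

theorem exists_extension_of_isTrigonalizable (hT : IsTrigonalizable k A) :
    ∃ (B : Type u) (_ : CommRing B) (_ : HopfAlgebra k B) (ψ : B →ₐc[k] A) (J : Ideal A) (_ : J.IsHopfIdeal k),
      Function.Injective ψ ∧ IsDiagonalizable k B ∧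
        J = Ideal.map (ψ : B →+* A) (RingHom.ker (Bialgebra.counitAlgHom k B)) ∧ IsUnipotent k (A ⧸ J) := by
  letI := hopfSub (charAlg k A) isHopfSubalgebra_charAlg
  let ψ := valHom (charAlg k A) isHopfSubalgebra_charAlg
  haveI := isHopfIdeal_kerIdeal ψ
  refine ⟨charAlg k A, inferInstance, inferInstance, ψ, kerIdeal ψ, inferInstance,
    valHom_injective _ _, ?_, rfl, ?_⟩
  · refine eq_top_iff.2 fun b _ => ?_
    have hb : (b : A) ∈ Submodule.span k {a : A | IsGroupLikeElem k a} :=
      charAlg_toSubmodule (k := k) (A := A) ▸ b.2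
    have hmap : (Submodule.span k {c : charAlg k A | IsGroupLikeElem k c}).map
        (charAlg k A).val.toLinearMap = Submodule.span k {a : A | IsGroupLikeElem k a} := by
      rw [Submodule.map_span]
      refine congrArg _ (Set.ext fun a => ⟨?_, fun ha => ?_⟩)
      · rintro ⟨c, hc, rfl⟩
        exact IsGroupLikeElem.map ψ hc
      · refine ⟨⟨a, Algebra.subset_adjoin ha⟩, ⟨?_, ?_⟩, rfl⟩
        · exact (CoalgHomClass.counit_comp_apply ψ _).symm.trans ha.counit_eq_one
        · refine map_val_injective (charAlg k A) ?_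
          exact (map_comulSub (charAlg k A) isHopfSubalgebra_charAlg _).trans ha.comul_eq_tmul_self
    rw [← hmap] at hb
    obtain ⟨c, hc, he⟩ := hb
    exact Subtype.ext he ▸ hc
  · rw [isTrigonalizable_iff_isWeighted] at hT
    rw [isUnipotent_iff_isWeighted]
    refine isWeighted_of_surjective (Bialgebra.Quotient.mkBialgHom (R := k) (kerIdeal ψ))
      Ideal.Quotient.mk_surjective (fun g hg => ?_) hT
    refine Set.mem_singleton_iff.2 ((mk_kerIdeal ψ ⟨g, Algebra.subset_adjoin hg⟩).trans ?_)
    rw [show Coalgebra.counit (R := k) (⟨g, Algebra.subset_adjoin hg⟩ : charAlg k A) = 1 from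
      (CoalgHomClass.counit_comp_apply ψ _).symm.trans hg.counit_eq_one, map_one]

end Groth.Agent.HopfUnip
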