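import Groth.Agent.HopfUnip.PrimPow
import Groth.Agent.Comod.Subcoalg
import Groth.Prelude.Def_LieHopf
import Mathlib.RingTheory.Filtration
import Mathlib.RingTheory.Ideal.Operations
import Mathlib.RingTheory.FiniteType

/-!
# Unipotent groups in characteristic zero are seen by their Lie algebra
-/

set_option autoImplicit false
universe u v w

open TensorProduct

namespace Groth.Agent.HopfUnip

open Groth.Agent.Comod HopfRep

variable {k : Type u} [Field k] {A : Type u} [CommRing A] [HopfAlgebra k A]

variable (k A) in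
/-- the augmentation ideal -/
noncomputable abbrev augI : Ideal A := RingHom.ker (Bialgebra.counitAlgHom k A)

theorem sub_counit_mem_augI (a : A) : a - Coalgebra.counit (R := k) a • 1 ∈ augI k A := by
  rw [RingHom.mem_ker, map_sub, map_smul, map_one, smul_eq_mul, mul_one]
  exact sub_self _

theorem smul_mem_ideal (I : Ideal A) (r : k) {x : A} (hx : x ∈ I) : r • x ∈ I := by
  rw [Algebra.smul_def]; exact I.mul_mem_left _ hx

/-- an invariant vector field -/
noncomputable def vfield (ξ : LieHopf.Lie k A) : A →ₗ[k] A :=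
  slL (LieHopf.dlin ξ) ∘ₗ Coalgebra.comul (R := k)

theorem vfield_apply (ξ : LieHopf.Lie k A) (a : A) :
    vfield ξ a = slL (LieHopf.dlin ξ) (Coalgebra.comul (R := k) a) := rfl

theorem vfield_mul (ξ : LieHopf.Lie k A) (a b : A) : vfield ξ (a * b) = a * vfield ξ b + b * vfield ξ a := by
  have key : ∀ y z : A ⊗[k] A, slL (LieHopf.dlin ξ) (y * z) =
      slL (Coalgebra.counit (R := k)) y * slL (LieHopf.dlin ξ) z +
        slL (Coalgebra.counit (R := k)) z * slL (LieHopf.dlin ξ) y := by
    intro y z
    induction y with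
    | zero => simp
    | tmul p q =>
      induction z with
      | zero => simp
      | tmul r s =>
        simp only [Algebra.TensorProduct.tmul_mul_tmul, slL_tmul, LieHopf.dlin_mul, add_smul,
          smul_mul_smul_comm, Bialgebra.counitAlgHom_apply, mul_comm q s]
      | add u v hu hv => simp only [mul_add, map_add, hu, hv, add_mul]; abel
    | add u v hu hv => simp only [add_mul, map_add, hu, hv, mul_add]; abel
  rw [vfield_apply, Bialgebra.comul_mul, key, slL_counit_comul, slL_counit_comul]
  rfl

theorem counit_vfield (ξ : LieHopf.Lie k A) (a : A) :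
    Coalgebra.counit (R := k) (vfield ξ a) = LieHopf.dlin ξ a := by
  have h : ∀ y : A ⊗[k] A, Coalgebra.counit (R := k) (slL (LieHopf.dlin ξ) y) =
      LieHopf.dlin ξ (slR (Coalgebra.counit (R := k)) y) := by
    intro y
    induction y with
    | zero => simp
    | tmul p q => simp [mul_comm]
    | add u v hu hv => simp only [map_add, hu, hv]
  rw [vfield_apply, h, slR_counit_comul]

theorem exists_lie_coordinates [IsNoetherianRing A] :
    ∃ (N : ℕ) (x : Fin N → A) (ξ : Fin N → LieHopf.Lie k A), (∀ i, x i ∈ augI k A) ∧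
      ∀ a ∈ augI k A, a - ∑ i, LieHopf.dlin (ξ i) a • x i ∈ augI k A ^ 2 := by
  classical
  let m : Submodule k A := (augI k A).restrictScalars k
  let m2 : Submodule k A := (augI k A ^ 2).restrictScalars k
  let P : Submodule k (A ⧸ m2) := m.map m2.mkQ
  obtain ⟨s, hs⟩ := (IsNoetherian.noetherian (augI k A) : (augI k A).FG)
  have hP : P = Submodule.span k (m2.mkQ '' (s : Set A)) := by
    refine le_antisymm ?_ (Submodule.span_le.2 ?_)
    · rintro _ ⟨a, ha, rfl⟩
      have ha' : a ∈ Submodule.span A (s : Set A) := hs.symm ▸ ha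
      induction ha' using Submodule.span_induction with
      | mem y hy => exact Submodule.subset_span ⟨y, hy, rfl⟩
      | zero => simp
      | add y z hy' hz' hy hz =>
        rw [map_add]
        exact add_mem (hy (le_of_eq hs hy')) (hz (le_of_eq hs hz'))
      | smul c y hy' hy =>
        have hy2 : y ∈ augI k A := hs ▸ hy'
        have e : m2.mkQ (c • y) = Coalgebra.counit (R := k) c • m2.mkQ y := by
          rw [← map_smul, ← sub_eq_zero, ← map_sub, Submodule.mkQ_apply, Submodule.Quotient.mk_eq_zero]
          show c • y - _ ∈ augI k A ^ 2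
          rw [show c • y - Coalgebra.counit (R := k) c • y = (c - Coalgebra.counit (R := k) c • 1) * y by
            rw [sub_mul, smul_mul_assoc, one_mul, smul_eq_mul], pow_two]
          exact Ideal.mul_mem_mul (sub_counit_mem_augI c) hy2
        rw [e]
        exact Submodule.smul_mem _ _ (hy hy2)
    · rintro _ ⟨y, hy, rfl⟩
      exact ⟨y, show y ∈ augI k A from hs ▸ Ideal.subset_span hy, rfl⟩
  haveI : Module.Finite k P := Module.Finite.iff_fg.2 (hP ▸ Submodule.fg_span ((Finset.finite_toSet s).image _))
  let b := Module.finBasis k P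
  have hlift : ∀ i, ∃ a ∈ augI k A, m2.mkQ a = (b i : A ⧸ m2) := fun i => by
    obtain ⟨a, ha, he⟩ := (b i).2
    exact ⟨a, ha, he⟩
  choose x hx hxe using hlift
  let proj : A →ₗ[k] P := LinearMap.codRestrict P
    (m2.mkQ ∘ₗ (LinearMap.id - (Coalgebra.counit (R := k) (A := A)).smulRight (1 : A)))
    fun a => ⟨a - Coalgebra.counit (R := k) a • 1, sub_counit_mem_augI a, rfl⟩
  have hproj : ∀ a, (proj a : A ⧸ m2) = m2.mkQ (a - Coalgebra.counit (R := k) a • 1) := fun a => rfl
  let L : Fin (Module.finrank k P) → A →ₗ[k] k := fun i => (b.coord i) ∘ₗ proj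
  have hleib : ∀ i a c, L i (a * c) = Coalgebra.counit (R := k) a • L i c + Coalgebra.counit (R := k) c • L i a := by
    intro i a c
    simp only [L, LinearMap.comp_apply]
    rw [← map_smul (b.coord i), ← map_smul (b.coord i), ← map_add (b.coord i)]
    congr 1
    refine Subtype.ext ?_
    rw [Submodule.coe_add, Submodule.coe_smul, Submodule.coe_smul, hproj, hproj, hproj, ← map_smul, ← map_smul,
      ← map_add, ← sub_eq_zero, ← map_sub, Submodule.mkQ_apply, Submodule.Quotient.mk_eq_zero]
    show _ ∈ augI k A ^ 2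
    have e : a * c - Coalgebra.counit (R := k) (a * c) • 1 - (Coalgebra.counit (R := k) a • (c - Coalgebra.counit (R := k) c • 1) +
        Coalgebra.counit (R := k) c • (a - Coalgebra.counit (R := k) a • 1)) =
        (a - Coalgebra.counit (R := k) a • 1) * (c - Coalgebra.counit (R := k) c • 1) := by
      rw [Bialgebra.counit_mul]
      simp only [Algebra.smul_def, map_mul]
      ring
    rw [e, pow_two]
    exact Ideal.mul_mem_mul (sub_counit_mem_augI a) (sub_counit_mem_augI c)
  let ξ : Fin (Module.finrank k P) → LieHopf.Lie k A := fun i => Derivation.mk'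
    ({ toFun := fun a => (L i a : k)
       map_add' := fun a c => map_add (L i) a c
       map_smul' := fun r a => map_smul (L i) r a } : A →ₗ[k] LieHopf.K k A)
    fun a c => hleib i a c
  refine ⟨_, x, ξ, hx, fun a ha => ?_⟩
  have hd : ∀ i, LieHopf.dlin (ξ i) a = L i a := fun i => rfl
  show a - ∑ i, LieHopf.dlin (ξ i) a • x i ∈ m2
  rw [← Submodule.Quotient.mk_eq_zero, ← Submodule.mkQ_apply, map_sub, map_sum, sub_eq_zero]
  have hsum := congrArg (Subtype.val) (b.sum_repr (proj a))
  rw [hproj, show Coalgebra.counit (R := k) a = 0 from ha, zero_smul, sub_zero, Submodule.coe_sum] at hsum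
  rw [← hsum]
  exact Finset.sum_congr rfl fun i _ => by rw [map_smul, hxe, hd]; rfl

theorem euler_pow {N : ℕ} (x : Fin N → A) (ξ : Fin N → LieHopf.Lie k A) (hx : ∀ i, x i ∈ augI k A)
    (hcoord : ∀ a ∈ augI k A, a - ∑ i, LieHopf.dlin (ξ i) a • x i ∈ augI k A ^ 2) :
    ∀ n : ℕ, ∀ a ∈ augI k A ^ n, (∑ i, x i * vfield (ξ i) a) - (n : k) • a ∈ augI k A ^ (n + 1) := by
  let E : A → A := fun a => ∑ i, x i * vfield (ξ i) a
  have hE1 : ∀ a ∈ augI k A, E a - a ∈ augI k A ^ 2 := by
    intro a ha
    have e : E a - a = (∑ i, x i * (vfield (ξ i) a - Coalgebra.counit (R := k) (vfield (ξ i) a) • 1)) -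
        (a - ∑ i, LieHopf.dlin (ξ i) a • x i) := by
      simp only [mul_sub, mul_smul_comm, mul_one, counit_vfield, Finset.sum_sub_distrib, E]
      abel
    rw [e]
    refine sub_mem (sum_mem fun i _ => ?_) (hcoord a ha)
    rw [pow_two]
    exact Ideal.mul_mem_mul (hx i) (sub_counit_mem_augI _)
  have hmul : ∀ a b, E (a * b) = a * E b + b * E a := fun a b => by
    simp only [E, vfield_mul, Finset.mul_sum, ← Finset.sum_add_distrib]
    exact Finset.sum_congr rfl fun i _ => by ring
  intro n
  induction n with
  | zero =>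
    intro a _
    rw [Nat.cast_zero, zero_smul, sub_zero, pow_one]
    exact sum_mem fun i _ => Ideal.mul_mem_right _ _ (hx i)
  | succ n ih =>
    intro a ha
    rw [pow_succ'] at ha
    induction ha using Submodule.mul_induction_on' with
    | mem_mul_mem u hu v hv =>
      show E (u * v) - _ ∈ _
      have e : E (u * v) - ((n + 1 : ℕ) : k) • (u * v) = u * (E v - (n : k) • v) + v * (E u - u) := by
        rw [hmul, Nat.cast_succ, add_smul, one_smul, mul_sub, mul_sub, mul_smul_comm, mul_comm v u]
        abel
      rw [e]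
      refine add_mem ?_ ?_
      · rw [pow_succ' (augI k A) (n + 1)]
        exact Ideal.mul_mem_mul hu (ih v hv)
      · rw [pow_add (augI k A) n 2]
        exact Ideal.mul_mem_mul hv (hE1 u hu)
    | add y _ z _ hy hz =>
      have e : (∑ i, x i * vfield (ξ i) (y + z)) - ((n + 1 : ℕ) : k) • (y + z) =
          ((∑ i, x i * vfield (ξ i) y) - ((n + 1 : ℕ) : k) • y) +
            ((∑ i, x i * vfield (ξ i) z) - ((n + 1 : ℕ) : k) • z) := by
        simp only [map_add, mul_add, Finset.sum_add_distrib, smul_add]
        abel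
      rw [e]
      exact add_mem hy hz

section CharZero

variable [CharZero k] [Algebra.FiniteType k A]

theorem eq_zero_of_primitive_killed {p : A} (hp : Coalgebra.comul (R := k) p = p ⊗ₜ[k] (1 : A) + (1 : A) ⊗ₜ[k] p)
    (hk : ∀ ξ : LieHopf.Lie k A, vfield ξ p = 0) : p = 0 := by
  haveI : IsNoetherianRing A := Algebra.FiniteType.isNoetherianRing k A
  obtain ⟨N, x, ξ, hx, hcoord⟩ := exists_lie_coordinates (k := k) (A := A)
  have hmem : ∀ n, p ∈ augI k A ^ n := by
    intro n
    induction n with
    | zero => simp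
    | succ n ih =>
      rcases n with _ | n
      · rw [pow_one]; exact counit_primitive hp
      have h := euler_pow x ξ hx hcoord (n + 1) p ih
      simp only [hk, mul_zero, Finset.sum_const_zero, zero_sub, neg_mem_iff] at h
      have h' := smul_mem_ideal _ ((n + 1 : ℕ) : k)⁻¹ h
      rwa [smul_smul, inv_mul_cancel₀ (Nat.cast_ne_zero.2 (by omega)), one_smul] at h'
  obtain ⟨⟨r, hr⟩, hrp⟩ := (Ideal.mem_iInf_smul_pow_eq_bot_iff (I := augI k A) p).1
    ((Submodule.mem_iInf _).2 fun n => by rw [smul_eq_mul, Ideal.mul_top]; exact hmem n)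
  by_contra hp0
  have h1 : p * (1 - r) = 0 := by
    rw [mul_sub, mul_one, mul_comm, ← smul_eq_mul, hrp, sub_self]
  have h2 := congrArg (Bialgebra.counitAlgHom k A) (eq_zero_of_primitive_mul hp hp0 h1)
  rw [map_sub, map_one, show Bialgebra.counitAlgHom k A r = 0 from hr, sub_zero, map_zero] at h2
  exact one_ne_zero h2

omit [CharZero k] [Algebra.FiniteType k A] in
theorem slL_lower (φ : A →ₗ[k] k) (h1 : φ 1 = 0) :
    ∀ n, ∀ x ∈ fil k A ({1} : Set A) (n + 1), slL φ (Coalgebra.comul (R := k) x) ∈ fil k A ({1} : Set A) n := by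
  intro n
  induction n with
  | zero =>
    intro x hx
    have hx1 : x ∈ ⨆ g : ({1} : Set A), wtSub k (g : A) (fil k A ({1} : Set A) 0) := hx
    rw [iSup_unique] at hx1
    have hΔ : Coalgebra.comul (R := k) x = x ⊗ₜ[k] (1 : A) := mem_wtSub_bot.1 hx1
    have h := slL_counit_comul (k := k) x
    rw [hΔ, slL_tmul] at h
    show slL φ (Coalgebra.comul (R := k) x) ∈ (⊥ : Submodule k A)
    rw [Submodule.mem_bot, hΔ, slL_tmul, ← h, map_smul, h1, smul_zero, zero_smul]
  | succ n ih =>
    intro x hx
    have hx1 : x ∈ ⨆ g : ({1} : Set A), wtSub k (g : A) (fil k A ({1} : Set A) (n + 1)) := hx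
    rw [iSup_unique] at hx1
    refine wtSub_le_fil_succ (g := (1 : A)) (Set.mem_singleton _) n (mem_wtSub_iff_slR.2 fun ψ => ?_)
    have h := ih _ (mem_wtSub_iff_slR.1 hx1 ψ)
    rw [map_sub, map_sub, map_smul, map_smul] at h
    rw [actL_apply]
    show slR ψ (Coalgebra.comul (R := k) (slL φ (Coalgebra.comul (R := k) x))) - _ ∈ _
    rw [coalg_mixed]
    exact h

variable (hU : IsUnipotent k A)

include hU in
/-- a function killed by all invariant vector fields is constant -/
theorem eq_counit_of_killed {x : A} (hx : ∀ ξ : LieHopf.Lie k A, vfield ξ x = 0) :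
    x = Coalgebra.counit (R := k) x • 1 := by
  have key : ∀ n, ∀ x ∈ fil k A ({1} : Set A) n, (∀ ξ : LieHopf.Lie k A, vfield ξ x = 0) →
      x = Coalgebra.counit (R := k) x • 1 := by
    intro n
    induction n with
    | zero => intro x hx _; simp [(Submodule.mem_bot k).1 hx]
    | succ n ih =>
      intro x hx hk
      have hx1 : x ∈ ⨆ g : ({1} : Set A), wtSub k (g : A) (fil k A ({1} : Set A) n) := hx
      rw [iSup_unique] at hx1
      let p := x - Coalgebra.counit (R := k) x • 1
      have hk1 : ∀ ξ : LieHopf.Lie k A, vfield ξ (1 : A) = 0 := fun ξ => by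
        rw [vfield_apply, Bialgebra.comul_one, Algebra.TensorProduct.one_def, slL_tmul, LieHopf.dlin_one, zero_smul]
      have hp : Coalgebra.comul (R := k) p = p ⊗ₜ[k] (1 : A) + (1 : A) ⊗ₜ[k] p := by
        refine ext_slR fun ψ => ?_
        have hy := ih _ (mem_wtSub_iff_slR.1 hx1 ψ) fun ξ => by
          rw [map_sub, map_smul, hk, smul_zero, sub_zero, vfield_apply, actL_apply]
          show slL _ (Coalgebra.comul (R := k) (slR ψ (Coalgebra.comul (R := k) x))) = 0
          rw [← coalg_mixed, show slL (LieHopf.dlin ξ) (Coalgebra.comul (R := k) x) = 0 from hk ξ, map_zero,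
            map_zero]
        have hε : Coalgebra.counit (R := k) (actL (V := A) ψ x) = ψ x := by
          have e : ∀ y : A ⊗[k] A, Coalgebra.counit (R := k) (slR ψ y) = ψ (slL (Coalgebra.counit (R := k)) y) := by
            intro y
            induction y with
            | zero => simp
            | tmul a b => simp [mul_comm]
            | add y z hy hz => simp only [map_add, hy, hz]
          rw [actL_apply, e]
          exact congrArg ψ (slL_counit_comul x)
        rw [show ((default : ({1} : Set A)) : A) = 1 from rfl, map_sub, map_smul, hε, smul_eq_mul, sub_smul,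
          mul_smul, sub_eq_iff_eq_add, actL_apply] at hy
        rw [map_sub, map_smul, Bialgebra.comul_one, Algebra.TensorProduct.one_def, map_sub, map_smul, map_add,
          slR_tmul, slR_tmul, slR_tmul]
        refine (congrArg (· - _) hy).trans ?_
        simp only [p, map_sub, map_smul, smul_eq_mul, sub_smul, smul_sub, mul_smul, smul_comm (ψ (1 : A))]
        abel
      exact sub_eq_zero.1 (eq_zero_of_primitive_killed hp fun ξ => by rw [map_sub, map_smul, hk, hk1, smul_zero, sub_zero])
  have hx' : x ∈ ⨆ n, fil k A ({1} : Set A) n := (isUnipotent_iff_isWeighted.1 hU).symm ▸ Submodule.mem_top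
  obtain ⟨n, hn⟩ := (Submodule.mem_iSup_of_directed _ (fil_mono _).directed_le).1 hx'
  exact key n x hn hx

include hU in
/-- a space of functions vanishing at the origin and stable under invariant vector fields vanishes -/
theorem eq_bot_of_stable {C : Submodule k A} (hε : ∀ c ∈ C, Coalgebra.counit (R := k) c = 0)
    (hC : ∀ (ξ : LieHopf.Lie k A), ∀ c ∈ C, vfield ξ c ∈ C) : C = ⊥ := by
  refine (Submodule.eq_bot_iff _).2 ?_
  have key : ∀ n, ∀ c ∈ C, c ∈ fil k A ({1} : Set A) n → c = 0 := by
    intro n
    induction n with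
    | zero => exact fun c _ h => (Submodule.mem_bot k).1 h
    | succ n ih =>
      intro c hc hcn
      have h := eq_counit_of_killed hU fun ξ =>
        ih _ (hC ξ c hc) (slL_lower _ (LieHopf.dlin_one ξ) n c hcn)
      rwa [hε c hc, zero_smul] at h
  intro c hc
  have hc' : c ∈ ⨆ n, fil k A ({1} : Set A) n := (isUnipotent_iff_isWeighted.1 hU).symm ▸ Submodule.mem_top
  obtain ⟨n, hn⟩ := (Submodule.mem_iSup_of_directed _ (fil_mono _).directed_le).1 hc'
  exact key n c hc hn

end CharZero

omit [HopfAlgebra k A] in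
theorem slL_comul_coeff {A : Type u} [CommRing A] [HopfAlgebra k A] {V : Type w} [AddCommGroup V] [Module k V]
    [Comod k A V] (φ : A →ₗ[k] k) (ψ : V →ₗ[k] k) (v : V) :
    slL φ (Coalgebra.comul (R := k) (slL ψ (Comod.coact (k := k) (A := A) v))) =
      slL (ψ ∘ₗ actL φ) (Comod.coact (k := k) (A := A) v) := by
  have h := LinearMap.congr_fun (Comod.coassoc (k := k) (A := A) (V := V)) v
  simp only [LinearMap.comp_apply, LinearEquiv.coe_coe] at h
  let G : V ⊗[k] (A ⊗[k] A) →ₗ[k] A := slL ψ ∘ₗ (slL φ).lTensor V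
  have h1 : ∀ z : V ⊗[k] A, slL φ (Coalgebra.comul (R := k) (slL ψ z)) =
      G ((Coalgebra.comul (R := k) (A := A)).lTensor V z) := by
    intro z
    induction z with
    | zero => simp
    | tmul p q => simp [G]
    | add y z hy hz => simp only [map_add, hy, hz]
  have h2 : ∀ z : V ⊗[k] A, slL (ψ ∘ₗ actL φ) z =
      G (TensorProduct.assoc k V A A ((Comod.coact (k := k) (A := A) (V := V)).rTensor A z)) := by
    intro z
    induction z with
    | zero => simp
    | tmul p q =>
      rw [slL_tmul, LinearMap.rTensor_tmul, LinearMap.comp_apply, actL_apply]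
      generalize Comod.coact (k := k) (A := A) p = y
      induction y with
      | zero => simp
      | tmul u t => simp [G, smul_smul, mul_comm]
      | add y z hy hz => simp only [map_add, add_smul, add_tmul, hy, hz]
    | add y z hy hz => simp only [map_add, hy, hz]
  rw [h1, h2, ← h]

theorem lTensor_lie {V : Type u} [AddCommGroup V] [Module k V] (ξ : LieHopf.Lie k A) (z : V ⊗[k] A) :
    LinearMap.lTensor V (ξ.toLinearMap.restrictScalars k) z =
      (TensorProduct.mk k V (LieHopf.K k A)).flip (1 : LieHopf.K k A) (slR (LieHopf.dlin ξ) z) := by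
  induction z with
  | zero => simp
  | tmul p q =>
    rw [LinearMap.lTensor_tmul, slR_tmul, LinearMap.flip_apply, TensorProduct.mk_apply, TensorProduct.smul_tmul]
    exact congrArg (fun c : LieHopf.K k A => p ⊗ₜ[k] c) (mul_one (LieHopf.dlin ξ q : k)).symm
  | add y z hy hz => simp only [map_add, hy, hz]

theorem flip_mk_K_injective {V : Type u} [AddCommGroup V] [Module k V] :
    Function.Injective ((TensorProduct.mk k V (LieHopf.K k A)).flip (1 : LieHopf.K k A)) := fun a b h => by
  have h' := congrArg (fun z => TensorProduct.rid k V (LinearMap.lTensor V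
    ({ toFun := fun c => (c : k), map_add' := fun _ _ => rfl, map_smul' := fun _ _ => rfl } :
      LieHopf.K k A →ₗ[k] k) z)) h
  simp only [LinearMap.flip_apply, TensorProduct.mk_apply, LinearMap.lTensor_tmul, TensorProduct.rid_tmul] at h'
  exact (one_smul k a).symm.trans (h'.trans (one_smul k b))

end Groth.Agent.HopfUnip
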