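import Groth.Agent.HopfUnip.Commutative
import Groth.Agent.HopfUnip.MultConst
import Groth.Prelude.Def_SGA3t2b

/-!
# The largest subgroup of multiplicative type of a commutative group; no homomorphisms between the two kinds
-/

set_option autoImplicit false
universe u v w

open TensorProduct

namespace Groth.Agent.HopfUnip

open Groth.Agent.Comod Groth.Agent.HopfFF Groth.Agent.NormalQuot HopfRep

theorem eq_one_of_isUnipotent {k : Type u} [Field k] {A : Type v} [CommRing A] [Bialgebra k A]
    (hU : IsUnipotent k A) {g : A} (hg : IsGroupLikeElem k g) : g = 1 := by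
  haveI : Nontrivial A := (Bialgebra.counitAlgHom k A).toRingHom.domain_nontrivial
  have hsub : IsSubcomod (k := k) (A := A) (Submodule.span k {g}) := isSubcomod_iff.2 fun φ v hv => by
    obtain ⟨c, rfl⟩ := Submodule.mem_span_singleton.1 hv
    rw [map_smul, actL_apply, show Comod.coact (k := k) (A := A) g = g ⊗ₜ[k] g from hg.comul_eq_tmul_self,
      slR_tmul]
    exact Submodule.smul_mem _ _ (Submodule.smul_mem _ _ (Submodule.mem_span_singleton_self g))
  obtain ⟨u, hu, hu0, h, rfl, hh⟩ := exists_eigvec_mem (S := ({1} : Set A))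
    (fun x hx => by rw [Set.mem_singleton_iff.1 hx]; exact IsGroupLikeElem.one) hsub
    (fun hb => hg.ne_zero (Submodule.span_singleton_eq_bot.1 hb))
    (le_of_le_of_eq le_top (isUnipotent_iff_isWeighted.1 hU).symm)
  obtain ⟨c, rfl⟩ := Submodule.mem_span_singleton.1 hu
  have hc : c ≠ 0 := fun h0 => hu0 (by rw [h0, zero_smul])
  have e := congrArg (slL (A := A) (Coalgebra.counit (R := k))) hh
  rw [map_smul, show Comod.coact (k := k) (A := A) g = g ⊗ₜ[k] g from hg.comul_eq_tmul_self, map_smul,
    slL_tmul, slL_tmul, hg.counit_eq_one, one_smul, map_smul, hg.counit_eq_one, smul_eq_mul, mul_one] at e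
  calc g = c⁻¹ • (c • g) := by rw [smul_smul, inv_mul_cancel₀ hc, one_smul]
    _ = 1 := by rw [e, smul_smul, inv_mul_cancel₀ hc, one_smul]

variable {k : Type u} [Field k]

theorem hom_trivial {M : Type u} [CommRing M] [Bialgebra k M] {U : Type u} [CommRing U] [Bialgebra k U]
    (hM : Function.Injective (primMap k M)) (hU : IsUnipotent k U) (f : U →ₐc[k] M) (b : U) :
    f b = algebraMap k M (Coalgebra.counit (R := k) b) := by
  have h := trivial_of_unipotent hM hU (Bialgebra.TensorProduct.map (BialgHom.id k k) f) ((1 : k) ⊗ₜ[k] b)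
  have h' := congrArg (Algebra.TensorProduct.lid k M) h
  rw [AlgEquiv.commutes] at h'
  simpa [TensorProduct.counit_tmul] using h'

/-- no homomorphisms from a unipotent group to a group of multiplicative type -/
theorem trivial_to_unipotent {M U : Type u} [CommRing M] [HopfAlgebra k M] [CommRing U] [HopfAlgebra k U]
    (hM : IsDiagonalizable (AlgebraicClosure k) (AlgebraicClosure k ⊗[k] M)) (hU : IsUnipotent k U)
    (ψ : M →ₐc[k] U) (a : M) : ψ a = algebraMap k U (Coalgebra.counit (R := k) a) := by
  let K := AlgebraicClosure k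
  let ψK : K ⊗[k] M →ₐc[K] K ⊗[k] U := Bialgebra.TensorProduct.map (BialgHom.id K K) ψ
  have hUK : IsUnipotent K (K ⊗[k] U) := (isUnipotent_baseChange_iff K).1 hU
  have hall : ∀ x : K ⊗[k] M, ψK x = Coalgebra.counit (R := K) x • (1 : K ⊗[k] U) := by
    intro x
    have hx : x ∈ Submodule.span K {g : K ⊗[k] M | IsGroupLikeElem K g} := hM.symm ▸ Submodule.mem_top
    induction hx using Submodule.span_induction with
    | mem g hg => rw [eq_one_of_isUnipotent hUK (IsGroupLikeElem.map ψK hg), hg.counit_eq_one, one_smul]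
    | zero => simp
    | add x y _ _ hx hy => rw [map_add, map_add, add_smul, hx, hy]
    | smul c x _ hx => rw [map_smul, map_smul, hx, smul_assoc]
  have h1 : (1 : K) ⊗ₜ[k] ψ a = (1 : K) ⊗ₜ[k] algebraMap k U (Coalgebra.counit (R := k) a) := by
    have h := hall ((1 : K) ⊗ₜ[k] a)
    rw [TensorProduct.counit_tmul] at h
    refine Eq.trans h ?_
    simp [Algebra.TensorProduct.one_def, Algebra.algebraMap_eq_smul_one, TensorProduct.smul_tmul',
      ← TensorProduct.smul_tmul]
  have hinj := Module.Flat.rTensor_preserves_injective_linearMap (M := U) (Algebra.linearMap k K)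
    (algebraMap k K).injective
  have := @hinj ((1 : k) ⊗ₜ[k] ψ a) ((1 : k) ⊗ₜ[k] algebraMap k U (Coalgebra.counit (R := k) a))
    (by simpa using h1)
  simpa using congrArg (TensorProduct.lid k U) this

variable {A : Type u} [CommRing A] [HopfAlgebra k A] [Coalgebra.IsCocomm k A]

theorem isCocomm_quotient (I : Ideal A) [I.IsHopfIdeal k] : Coalgebra.IsCocomm k (A ⧸ I) := by
  refine ⟨LinearMap.ext fun q => ?_⟩
  obtain ⟨a, rfl⟩ := Ideal.Quotient.mk_surjective q
  show TensorProduct.comm k _ _ (Coalgebra.comul (R := k) (Bialgebra.Quotient.mkBialgHom (R := k) I a)) =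
    Coalgebra.comul (R := k) (Bialgebra.Quotient.mkBialgHom (R := k) I a)
  rw [← CoalgHomClass.map_comp_comul_apply]
  conv_rhs => rw [← Coalgebra.comm_comul k a]
  generalize Coalgebra.comul (R := k) a = z
  induction z with
  | zero => simp
  | tmul p q => simp
  | add y z hy hz => simp only [map_add, hy, hz]

/-- a commutative affine algebraic group has a largest subgroup of multiplicative type, with unipotent quotient -/
theorem exists_largest_multType [Algebra.FiniteType k A] :
    ∃ (J : Ideal A) (_ : J.IsHopfIdeal k), SGA3b.IsMultTypeConst k (A ⧸ J) ∧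
      (∀ (I : Ideal A) [I.IsHopfIdeal k], SGA3b.IsMultTypeConst k (A ⧸ I) → J ≤ I) ∧
      ∃ (B : Type u) (_ : CommRing B) (_ : HopfAlgebra k B) (φ : B →ₐc[k] A), Function.Injective φ ∧
        J = Ideal.map (φ : B →+* A) (RingHom.ker (Bialgebra.counitAlgHom k B)) ∧ IsUnipotent k B := by
  let Bu := unipAlg k A
  letI := hopfSub Bu isHopfSubalgebra_unipAlg
  let ι := valHom Bu isHopfSubalgebra_unipAlg
  haveI := isHopfIdeal_kerIdeal ι
  let J := kerIdeal ι
  refine ⟨J, inferInstance, ?_, fun I _ hI => ?_, Bu, inferInstance, inferInstance, ι, valHom_injective _ _, rfl,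
    isUnipotent_unipAlg⟩
  · haveI := isCocomm_quotient (k := k) J
    refine isMultTypeConst_iff.2 ⟨inferInstance, ?_⟩
    let K := AlgebraicClosure k
    let π := Bialgebra.Quotient.mkBialgHom (R := k) J
    let πK : K ⊗[k] A →ₐc[K] K ⊗[k] (A ⧸ J) := Bialgebra.TensorProduct.map (BialgHom.id K K) π
    have hsurj : Function.Surjective πK := by
      intro z
      induction z with
      | zero => exact ⟨0, map_zero _⟩
      | tmul c q =>
        obtain ⟨a, rfl⟩ := Ideal.Quotient.mk_surjective q
        exact ⟨c ⊗ₜ[k] a, rfl⟩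
      | add y z hy hz =>
        obtain ⟨a, rfl⟩ := hy
        obtain ⟨b, rfl⟩ := hz
        exact ⟨a + b, map_add _ _ _⟩
    haveI := isHopfIdeal_ker πK
    have hd := isDiagonalizable_of_trig (Groth.Agent.S3308.result K (K ⊗[k] A))
      (RingHom.ker (πK : K ⊗[k] A →ₐ[K] K ⊗[k] (A ⧸ J))) fun w hw => by
        rw [RingHom.mem_ker, map_sub, sub_eq_zero]
        show πK w = πK (Coalgebra.counit (R := K) w • 1)
        rw [map_smul, map_one]
        have hw' : w ∈ (unipPart k A).baseChange K := by
          obtain ⟨n, hn⟩ := (Submodule.mem_iSup_of_directed _ (fil_mono _).directed_le).1 hw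
          refine (show (fil k A ({1} : Set A) n).baseChange K ≤ (unipPart k A).baseChange K from ?_)
            (fil_baseChange_le K n hn)
          rw [Submodule.baseChange_eq_span, Submodule.baseChange_eq_span]
          exact Submodule.span_mono (Set.image_mono (le_iSup (fun n => fil k A ({1} : Set A) n) n))
        obtain ⟨y, rfl⟩ := hw'
        clear hw
        induction y with
        | zero => simp
        | tmul r a =>
          show r ⊗ₜ[k] (Ideal.Quotient.mk J (a : A)) = _
          rw [show Ideal.Quotient.mk J (a : A) = algebraMap k (A ⧸ J) (Coalgebra.counit (R := k) (a : A)) from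
            (mk_kerIdeal ι ⟨a, a.2⟩).trans (congrArg _ (CoalgHomClass.counit_comp_apply ι _).symm)]
          simp [TensorProduct.counit_tmul, Algebra.TensorProduct.one_def, Algebra.algebraMap_eq_smul_one,
            TensorProduct.smul_tmul', ← TensorProduct.smul_tmul]
        | add y z hy hz => simp only [map_add, add_smul, hy, hz]
    have hd' : IsDiagonalizable K (K ⊗[k] (A ⧸ J)) := by
      refine eq_top_iff.2 fun z _ => ?_
      obtain ⟨a, rfl⟩ := hsurj z
      have ha : Ideal.Quotient.mk (RingHom.ker (πK : K ⊗[k] A →ₐ[K] K ⊗[k] (A ⧸ J))) a ∈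
          Submodule.span K {g | IsGroupLikeElem K g} := hd.symm ▸ Submodule.mem_top
      have := Submodule.mem_map_of_mem (f := ((kerLift πK : (K ⊗[k] A ⧸ RingHom.ker (πK : K ⊗[k] A →ₐ[K] K ⊗[k] (A ⧸ J))) →ₐc[K] K ⊗[k] (A ⧸ J)) : _ →ₐ[K] K ⊗[k] (A ⧸ J)).toLinearMap) ha
      rw [Submodule.map_span] at this
      refine Submodule.span_mono ?_ this
      rintro _ ⟨g, hg, rfl⟩
      exact IsGroupLikeElem.map (kerLift πK) hg
    exact primMap_injective_of_baseChange K (primMap_injective_iff.2 fun f hf => eq_zero_of_primitive hd' hf)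
  · refine Ideal.map_le_iff_le_comap.2 fun b hb => ?_
    have h := hom_trivial (isMultTypeConst_iff.1 hI).2 isUnipotent_unipAlg
      ((Bialgebra.Quotient.mkBialgHom (R := k) I).comp ι) b
    rw [show Coalgebra.counit (R := k) b = 0 from hb, map_zero] at h
    show ι b ∈ I
    exact Ideal.Quotient.eq_zero_iff_mem.1 h

end Groth.Agent.HopfUnip
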